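import Cfsg.Agent.H9.Partition.Normal

/-!
Invariant partitions without a normal component in a group with an abelian normal subgroup.
-/

set_option autoImplicit false
set_option linter.unusedSectionVars false
set_option linter.style.haveILetI false

namespace Cfsg.Agent.H9.Partition

open Subgroup
open scoped IsMulCommutative

universe u

variable {G : Type u} [Group G] [Finite G]

/-- The data of the abelian case: `K = O_p(G)` and the elements of order `p` in its centre. -/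
structure ACase (P : Part G) (p : ℕ) : Prop where
  hp : p.Prime
  two : ∀ a : G, a ≠ 1 → ¬ torsionCenter (Cfsg.pCore p G) p ≤ P.H a
  ne_bot : torsionCenter (Cfsg.pCore p G) p ≠ ⊥

theorem exists_acase (P : Part G) (hnc : ∀ x : G, x ≠ 1 → ¬ (P.H x).Normal) {A : Subgroup G}
    (hA : A.Normal) (hAne : A ≠ ⊥) (hAc : ∀ a ∈ A, ∀ b ∈ A, a * b = b * a) :
    ∃ p, ACase P p := by
  have htwo : ∀ (B : Subgroup G), B.Normal → B ≠ ⊥ → ∀ a : G, a ≠ 1 → ¬ B ≤ P.H a := by
    intro B hB hBne a ha hle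
    obtain ⟨b, hb, hb1⟩ := (B.bot_or_exists_ne_one).resolve_left hBne
    exact hnc a ha (normalizer_eq_top_iff.1 (eq_top_iff.2 fun g _ =>
      P.mem_normalizer ha (hle hb) hb1 (hle (hB.conj_mem b hb g))))
  obtain ⟨a, ha, ha1⟩ := (A.bot_or_exists_ne_one).resolve_left hAne
  obtain ⟨b, hb, hba⟩ := SetLike.not_le_iff_exists.1 (htwo A hA hAne a ha1)
  have hb1 : b ≠ 1 := fun e => hba (by rw [e]; exact one_mem _)
  obtain ⟨hp, hob⟩ := P.prime_of_commute ha1 hb1 (hAc a ha b hb) hba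
  have hexp : ∀ c ∈ A, c ^ orderOf a = 1 := by
    intro c hc
    by_cases hc1 : c = 1
    · rw [hc1, one_pow]
    by_cases hca : c ∈ P.H a
    · have hbc : b ∉ P.H c := fun h => hba (by rwa [P.eq ha1 hc1 hca] at h)
      rw [← hob, (P.prime_of_commute hc1 hb1 (hAc c hc b hb) hbc).2]
      exact pow_orderOf_eq_one c
    · rw [← (P.prime_of_commute ha1 hc1 (hAc a ha c hc) hca).2]
      exact pow_orderOf_eq_one c
  haveI := Fact.mk hp
  haveI := H1.pCore_normal' (orderOf a) G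
  have hAp : IsPGroup (orderOf a) A := fun c => ⟨1, Subtype.ext (by simpa using hexp c c.2)⟩
  haveI := hA
  have hKne : Cfsg.pCore (orderOf a) G ≠ ⊥ := fun e => hAne (le_bot_iff.1 (e ▸ H1.le_pCore hAp))
  haveI hKnt : Nontrivial (Cfsg.pCore (orderOf a) G) :=
    (Subgroup.nontrivial_iff_ne_bot _).2 hKne
  obtain ⟨v, hv, hv1, hvp, hvc⟩ := exists_central_prime
    (H1.isPGroup_pCore (orderOf a) G).isNilpotent hp
    (by
      obtain ⟨n, hn0, hn⟩ := ((H1.isPGroup_pCore (orderOf a) G).nontrivial_iff_card).1 hKnt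
      rw [hn]
      exact dvd_pow_self _ (by omega))
  refine ⟨orderOf a, hp, ?_, fun e => hv1 (Subgroup.mem_bot.1 (e ▸ ⟨hv, hvp, hvc⟩))⟩
  exact htwo _ (torsionCenter_normal inferInstance _)
    (fun e => hv1 (Subgroup.mem_bot.1 (e ▸ ⟨hv, hvp, hvc⟩)))

namespace ACase

variable {P : Part G} {p : ℕ}

local notation "V" => torsionCenter (Cfsg.pCore p G) p

theorem V_normal : (torsionCenter (Cfsg.pCore p G) p).Normal :=
  torsionCenter_normal (H1.pCore_normal' p G) p

theorem orderOf_V (c : ACase P p) {v : G} (hv : v ∈ V) (hv1 : v ≠ 1) : orderOf v = p :=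
  orderOf_eq_prime (hp := ⟨c.hp⟩) hv.2.1 hv1

theorem V_comm {u v : G} (hu : u ∈ V) (hv : v ∈ V) : Commute u v :=
  hv.2.2 u hu.1

/-- A component of a `p'`-element meets `V` trivially. -/
theorem no_meet (c : ACase P p) {y : G} {q : ℕ} (hq : q.Prime) (hqp : q ≠ p) (hy : orderOf y = q)
    {a : G} (ha : a ∈ V) (hay : a ∈ P.H y) : a = 1 := by
  by_contra ha1
  haveI := V_normal (G := G) (p := p)
  have hy1 : y ≠ 1 := fun e => hq.ne_one (by rw [← hy, e, orderOf_one])
  refine c.two y hy1 fun v hv => ?_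
  have hvn : ∀ b ∈ P.H y, v * b * v⁻¹ ∈ P.H y := fun b hb =>
    P.conj_mem_self hy1 hay ha1 (by rwa [(V_comm hv ha).eq, mul_inv_cancel_right]) hb
  have hfV : (v * y) ^ q ∈ V := by
    rw [← QuotientGroup.eq_one_iff, QuotientGroup.mk_pow, QuotientGroup.mk_mul,
      (QuotientGroup.eq_one_iff v).2 hv, one_mul, ← QuotientGroup.mk_pow, ← hy,
      pow_orderOf_eq_one]
    rfl
  have hfy : Commute y ((v * y) ^ q) := by
    have h1 : Commute (v⁻¹ * (v * y)) ((v * y) ^ q) :=
      (V_comm (inv_mem hv) hfV).mul_left (Commute.self_pow (v * y) q)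
    rwa [inv_mul_cancel_left] at h1
  have hfH : (v * y) ^ q ∈ P.H y := by
    by_cases hf1 : (v * y) ^ q = 1
    · rw [hf1]; exact one_mem _
    · exact P.mem_of_orderOf_ne hy1 (by rw [c.orderOf_V hfV hf1, hy]; exact hqp.symm) hfy
  have h2 := H56.inv_mul_pow_cancel_mem (P.H y) (x := v) hvn (hvn y (P.mem y)) q
  rw [inv_mul_cancel_right] at h2
  have h3 : v ^ q ∈ P.H y := by
    have h4 := mul_mem (inv_mem h2) hfH
    simpa using h4
  by_cases hv1 : v = 1
  · rw [hv1]; exact one_mem _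
  obtain ⟨m, hm⟩ := exists_pow_eq_self_of_coprime (x := v) (n := q)
    (by rw [c.orderOf_V hv hv1]; exact (Nat.coprime_primes hq c.hp).2 hqp)
  exact hm ▸ pow_mem h3 m

/-- Elements of order prime to `p` act fixed point freely on `V`. -/
theorem fpf_V (c : ACase P p) {y : G} {q : ℕ} (hq : q.Prime) (hqp : q ≠ p) (hy : orderOf y = q)
    {v : G} (hv : v ∈ V) (hc : Commute y v) : v = 1 := by
  by_contra hv1
  have hy1 : y ≠ 1 := fun e => hq.ne_one (by rw [← hy, e, orderOf_one])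
  exact hv1 (c.no_meet hq hqp hy hv
    (P.mem_of_orderOf_ne hy1 (by rw [c.orderOf_V hv hv1, hy]; exact hqp.symm) hc))

theorem exp_K (c : ACase P p) {w : G} (hw : w ∈ Cfsg.pCore p G) : w ^ p = 1 := by
  by_contra h
  have hw1 : w ≠ 1 := fun e => h (by rw [e, one_pow])
  refine c.two w hw1 fun v hv => ?_
  by_cases hv1 : v = 1
  · rw [hv1]; exact one_mem _
  refine P.mem_of_orderOf_ne hw1 ?_ (hv.2.2 w hw)
  rw [c.orderOf_V hv hv1]
  intro e
  exact h (by rw [e, pow_orderOf_eq_one])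

theorem exists_ne (c : ACase P p) : ∃ v ∈ V, v ≠ 1 :=
  (Subgroup.bot_or_exists_ne_one _).resolve_left c.ne_bot

theorem centralizer_le (c : ACase P p) {g : G} (hg : ∀ v ∈ V, Commute g v) :
    g ∈ Cfsg.pCore p G := by
  haveI := V_normal (G := G) (p := p)
  haveI := Fact.mk c.hp
  refine H1.le_pCore (N := centralizer ((V : Subgroup G) : Set G)) ?_
    (mem_centralizer_iff.2 fun v hv => (hg v hv).symm.eq)
  refine IsPGroup.iff_orderOf.2 fun z => ?_
  refine ⟨_, Nat.eq_prime_pow_of_unique_prime_dvd (orderOf_pos z).ne' fun {q} hq hqd => ?_⟩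
  by_contra hqp
  rw [← Subgroup.orderOf_coe] at hqd
  obtain ⟨v, hv, hv1⟩ := c.exists_ne
  refine hv1 (c.fpf_V hq hqp (orderOf_pow_orderOf_div (orderOf_pos (z : G)).ne' hqd) hv
    (Commute.pow_left ?_ _))
  exact (mem_centralizer_iff.1 z.2 v hv).symm

/-- Elements of order prime to `p` act fixed point freely on `O_p(G)`. -/
theorem fpf_K (c : ACase P p) {y : G} {q : ℕ} (hq : q.Prime) (hqp : q ≠ p) (hy : orderOf y = q)
    {w : G} (hw : w ∈ Cfsg.pCore p G) (hc : Commute y w) : w = 1 := by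
  by_contra hw1
  have hy1 : y ≠ 1 := fun e => hq.ne_one (by rw [← hy, e, orderOf_one])
  have how : orderOf w = p := orderOf_eq_prime (hp := ⟨c.hp⟩) (c.exp_K hw) hw1
  have hwy : w ∈ P.H y := P.mem_of_orderOf_ne hy1 (by rw [how, hy]; exact hqp.symm) hc
  obtain ⟨v, hv, hv1⟩ := c.exists_ne
  have h1 : v * y * v⁻¹ * y⁻¹ ∈ P.H y :=
    P.comm_mem hy1 hwy hw1 (hv.2.2 w hw).symm (P.mem y)
  have h2 : v * y * v⁻¹ * y⁻¹ ∈ V := by
    rw [show v * y * v⁻¹ * y⁻¹ = v * (y * v⁻¹ * y⁻¹) by group]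
    exact mul_mem hv ((V_normal (G := G) (p := p)).conj_mem _ (inv_mem hv) y)
  refine hv1 (c.fpf_V hq hqp hy hv ?_)
  exact (mul_inv_eq_iff_eq_mul.1 (mul_inv_eq_one.1 (c.no_meet hq hqp hy h2 h1))).symm

/-- Commuting elements of coprime orders outside `O_p(G)`. -/
theorem no_commute (c : ACase P p) [(Cfsg.pCore p G).Normal] {a b : G ⧸ Cfsg.pCore p G}
    (ha : a ^ p = 1) (ha1 : a ≠ 1) (hb : ¬ p ∣ orderOf b) (hc : Commute a b) : b = 1 := by
  haveI := Fact.mk c.hp
  by_contra hb1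
  set f := QuotientGroup.mk' (Cfsg.pCore p G) with hf
  obtain ⟨q, hq, hqd⟩ := Nat.exists_prime_and_dvd (n := orderOf b)
    (fun e => hb1 (orderOf_eq_one_iff.1 e))
  have hqp : q ≠ p := fun e => hb (e ▸ hqd)
  haveI := Fact.mk hq
  obtain ⟨g, rfl⟩ := QuotientGroup.mk'_surjective _ b
  obtain ⟨x, rfl⟩ := QuotientGroup.mk'_surjective _ a
  obtain ⟨k, j, hk, hkj⟩ := exists_q_power hq (Cfsg.pCore p G) hqd
  have hj : j ≠ 0 := fun e => hk (by
    rw [orderOf_eq_one_iff.1 (by simpa [e] using hkj : orderOf (g ^ k) = 1)]; exact one_mem _)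
  set y := (g ^ k) ^ (orderOf (g ^ k) / q) with hy
  have hyo : orderOf y = q := orderOf_pow_orderOf_div (orderOf_pos _).ne'
    (by rw [hkj]; exact dvd_pow_self q hj)
  have hy1 : y ≠ 1 := fun e => hq.ne_one (by rw [← hyo, e, orderOf_one])
  have hK : IsPGroup p (Cfsg.pCore p G) := H1.isPGroup_pCore p G
  have hKq : ¬ q ∣ Nat.card (Cfsg.pCore p G) := by
    obtain ⟨n, hn⟩ := IsPGroup.iff_card.1 hK
    rw [hn]
    exact fun h => hqp ((Nat.prime_dvd_prime_iff_eq hq c.hp).1 (hq.dvd_of_dvd_pow h))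
  have hcy : y * x * y⁻¹ * x⁻¹ ∈ Cfsg.pCore p G := by
    rw [← QuotientGroup.eq_one_iff]
    have h1 : Commute (f x) (f y) := by
      rw [hy, map_pow, map_pow]
      exact (hc.pow_right k).pow_right _
    show f (y * x * y⁻¹ * x⁻¹) = 1
    rw [map_mul, map_mul, map_mul, map_inv, map_inv, h1.symm.eq, mul_inv_cancel_right,
      mul_inv_cancel]
  obtain ⟨z, hz, hcz⟩ := exists_fixed_coset (k := 1) (by rw [pow_one]; exact hyo)
    (Cfsg.pCore p G) (fun w hw => (inferInstance : (Cfsg.pCore p G).Normal).conj_mem w hw y) hcy hKq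
  have hfz : f (z * x) = f x := by
    rw [map_mul, show f z = 1 from (QuotientGroup.eq_one_iff z).2 hz, one_mul]
  have hzx : z * x ≠ 1 := fun e => ha1 (by rw [← hfz, e, map_one])
  have hzxp : (z * x) ^ p ∈ Cfsg.pCore p G := by
    rw [← QuotientGroup.eq_one_iff]
    show f ((z * x) ^ p) = 1
    rw [map_pow, hfz, ha]
  obtain ⟨m, hm⟩ := hK ⟨_, hzxp⟩
  have hzo : (z * x) ^ p ^ (m + 1) = 1 := by
    rw [pow_succ', pow_mul]
    exact congrArg Subtype.val hm
  obtain ⟨i, -, hi⟩ := (Nat.dvd_prime_pow c.hp).1 (orderOf_dvd_of_pow_eq_one hzo)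
  have hmem : z * x ∈ P.H y := P.mem_of_coprime hy1
    (by rw [hyo, hi]; exact ((Nat.coprime_primes hq c.hp).2 hqp).pow_right i) hcz
  have hVn := V_normal (G := G) (p := p)
  obtain ⟨v, hv, hv1, hcv⟩ := exists_fixed hi V (fun w hw => hVn.conj_mem w hw _) (by
    obtain ⟨v, hv, hv1⟩ := c.exists_ne
    have h := Subgroup.orderOf_dvd_natCard _ hv
    rwa [c.orderOf_V hv hv1] at h)
  have h1 : v * y * v⁻¹ * y⁻¹ ∈ P.H y := P.comm_mem hy1 hmem hzx hcv.symm (P.mem y)
  have h2 : v * y * v⁻¹ * y⁻¹ ∈ V := by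
    rw [show v * y * v⁻¹ * y⁻¹ = v * (y * v⁻¹ * y⁻¹) by group]
    exact mul_mem hv (hVn.conj_mem _ (inv_mem hv) y)
  refine hv1 (c.fpf_V hq hqp hyo hv ?_)
  exact (mul_inv_eq_iff_eq_mul.1 (mul_inv_eq_one.1 (c.no_meet hq hqp hyo h2 h1))).symm

/-- A `p`-element with a non-trivial norm on `V`: `p = 2` and `V` is a four group. -/
theorem four (c : ACase P p) {g : G} (hg : g ∉ Cfsg.pCore p G) (hgp : g ^ p ∈ Cfsg.pCore p G)
    {v₀ : G} (hv₀ : v₀ ∈ V) (hne : (v₀ * g) ^ p ≠ g ^ p)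
    {y : G} {q : ℕ} (hq : q.Prime) (hqp : q ≠ p) (hy : orderOf y = q) :
    p = 2 ∧ Nat.card (torsionCenter (Cfsg.pCore p G) p) = 4 := by
  classical
  haveI hVn := V_normal (G := G) (p := p)
  haveI := H1.pCore_normal' p G
  haveI := Fact.mk c.hp
  haveI := Fact.mk hq
  have hmem : ∀ v ∈ V, (v * g) ^ p * (g ^ p)⁻¹ ∈ V := by
    intro v hv
    rw [← QuotientGroup.eq_one_iff]
    show QuotientGroup.mk' V ((v * g) ^ p * (g ^ p)⁻¹) = 1
    rw [map_mul, map_pow, map_mul, show QuotientGroup.mk' V v = 1 from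
      (QuotientGroup.eq_one_iff v).2 hv, one_mul, map_inv, map_pow, mul_inv_cancel]
  -- the norm map and its kernel
  let Nm : G → G := fun v => (v * g) ^ p * (g ^ p)⁻¹
  have hprod : ∀ (n : ℕ), ∀ u ∈ V, ∀ v ∈ V, (u * v * g) ^ n * (g ^ n)⁻¹ =
      ((u * g) ^ n * (g ^ n)⁻¹) * ((v * g) ^ n * (g ^ n)⁻¹) := by
    intro n
    induction n with
    | zero => intros; simp
    | succ n ih =>
      intro u hu v hv
      have hconj : ∀ w ∈ V, g ^ n * w * (g ^ n)⁻¹ ∈ V := fun w hw => hVn.conj_mem w hw _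
      have hmemn : ∀ w ∈ V, (w * g) ^ n * (g ^ n)⁻¹ ∈ V := by
        intro w hw
        rw [← QuotientGroup.eq_one_iff]
        show QuotientGroup.mk' V ((w * g) ^ n * (g ^ n)⁻¹) = 1
        rw [map_mul, map_pow, map_mul, show QuotientGroup.mk' V w = 1 from
          (QuotientGroup.eq_one_iff w).2 hw, one_mul, map_inv, map_pow, mul_inv_cancel]
      have hstep : ∀ w : G, (w * g) ^ (n + 1) * (g ^ (n + 1))⁻¹ =
          ((w * g) ^ n * (g ^ n)⁻¹) * (g ^ n * w * (g ^ n)⁻¹) := fun w => by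
        rw [pow_succ, pow_succ]
        group
      rw [hstep, hstep, hstep, ih u hu v hv]
      set A := (u * g) ^ n * (g ^ n)⁻¹ with hA
      set B := (v * g) ^ n * (g ^ n)⁻¹ with hB
      set C := g ^ n * u * (g ^ n)⁻¹ with hC
      set D := g ^ n * v * (g ^ n)⁻¹ with hD
      have hCD : g ^ n * (u * v) * (g ^ n)⁻¹ = C * D := by rw [hC, hD]; group
      rw [hCD, mul_assoc A B, ← mul_assoc B C D,
        (V_comm (hmemn v hv) (hconj u hu) : Commute B C).eq, mul_assoc C B D, ← mul_assoc A C]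
  have hNm : ∀ u ∈ V, ∀ v ∈ V, Nm (u * v) = Nm u * Nm v := fun u hu v hv => hprod p u hu v hv
  have hN1 : Nm 1 = 1 := by simp [Nm]
  have hNinv : ∀ u ∈ V, Nm u = 1 → Nm u⁻¹ = 1 := fun u hu h => by
    have := hNm u hu u⁻¹ (inv_mem hu)
    rwa [mul_inv_cancel, hN1, h, one_mul, eq_comm] at this
  let U : Subgroup G :=
    { carrier := {v | v ∈ V ∧ Nm v = 1}
      one_mem' := ⟨one_mem _, hN1⟩
      mul_mem' := fun {a b} ha hb => ⟨mul_mem ha.1 hb.1, by rw [hNm a ha.1 b hb.1, ha.2, hb.2,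
        one_mul]⟩
      inv_mem' := fun {a} ha => ⟨inv_mem ha.1, hNinv a ha.1 ha.2⟩ }
  -- the component of the elements of order greater than `p`
  obtain ⟨m, hm⟩ := H1.isPGroup_pCore p G ⟨_, hgp⟩
  have hgo : g ^ p ^ (m + 1) = 1 := by
    rw [pow_succ', pow_mul]
    exact congrArg Subtype.val hm
  obtain ⟨i, -, hi⟩ := (Nat.dvd_prime_pow c.hp).1 (orderOf_dvd_of_pow_eq_one hgo)
  obtain ⟨z, hz, hz1, hcz⟩ := exists_fixed hi V (fun w hw => hVn.conj_mem w hw _) (by
    obtain ⟨v, hv, hv1⟩ := c.exists_ne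
    have h := Subgroup.orderOf_dvd_natCard _ hv
    rwa [c.orderOf_V hv hv1] at h)
  have hD : ∀ v ∈ V, (v * g) ^ p ≠ 1 → v * g ∈ P.H z := by
    intro v hv hvp
    have h1 : v * g ≠ 1 := fun e => hvp (by rw [e, one_pow])
    have hnp : ¬ (orderOf (v * g)).Prime := by
      intro h
      refine hvp ?_
      have h2 : p ∣ orderOf (v * g) := NComp.dvd_order_of_image c.hp (M := Cfsg.pCore p G)
        (fun e => hg (by simpa using mul_mem (inv_mem hv.1) e))
        (by
          rw [← QuotientGroup.eq_one_iff, QuotientGroup.mk_pow, QuotientGroup.mk_mul,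
            (QuotientGroup.eq_one_iff v).2 hv.1, one_mul, ← QuotientGroup.mk_pow]
          exact (QuotientGroup.eq_one_iff _).2 hgp)
      rw [(Nat.prime_dvd_prime_iff_eq c.hp h).1 h2, pow_orderOf_eq_one]
    have h3 := P.mem_of_commute h1 hnp ((V_comm hv hz).mul_left hcz)
    rw [P.eq h1 hz1 h3]
    exact P.mem _
  have hbad : ∀ v ∈ V, ∀ v' ∈ V, (v * g) ^ p = 1 → (v' * g) ^ p = 1 → v * v'⁻¹ ∈ U := by
    intro v hv v' hv' h h'
    refine ⟨mul_mem hv (inv_mem hv'), ?_⟩
    have h1 := hNm (v * v'⁻¹) (mul_mem hv (inv_mem hv')) v' hv'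
    rw [inv_mul_cancel_right] at h1
    simp only [Nm, h, h'] at h1 ⊢
    exact mul_eq_right.1 h1.symm
  have hdiff : ∀ w ∈ V, ∀ v ∈ V, (v * g) ^ p ≠ 1 → (w * v * g) ^ p ≠ 1 → w ∈ P.H z := by
    intro w hw v hv h1 h2
    have h3 := mul_mem (hD _ (mul_mem hw hv) h2) (inv_mem (hD v hv h1))
    rwa [show w * v * g * (v * g)⁻¹ = w by group] at h3
  obtain ⟨d, hd, hdp⟩ : ∃ d ∈ V, (d * g) ^ p ≠ 1 := by
    by_contra h
    push Not at h
    apply hne
    rw [h v₀ hv₀]
    simpa using (h 1 (one_mem _)).symm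
  have hUz : ∀ u ∈ U, u ∈ P.H z := by
    intro u hu
    refine hdiff u hu.1 d hd hdp fun h => hdp ?_
    have h1 := hNm u hu.1 d hd
    rw [hu.2, one_mul] at h1
    simp only [Nm, h] at h1
    exact mul_right_cancel h1.symm
  obtain ⟨w, hw, hwz⟩ := SetLike.not_le_iff_exists.1 (c.two z hz1)
  have hb1 : ∀ v ∈ V, (v * g) ^ p ≠ 1 → (w * v * g) ^ p = 1 := fun v hv h => by
    by_contra h'
    exact hwz (hdiff w hw v hv h h')
  have hwd := hb1 d hd hdp
  have hcover : ∀ t ∈ V, t ∉ U → t * w⁻¹ ∈ U := by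
    intro t ht htU
    by_cases h : (t * d * g) ^ p = 1
    · have h1 := hbad _ (mul_mem ht hd) _ (mul_mem hw hd) h hwd
      rwa [mul_inv_rev, mul_assoc, mul_inv_cancel_left] at h1
    · have h1 := hbad _ (mul_mem hw (mul_mem ht hd)) _ (mul_mem hw hd)
        (hb1 _ (mul_mem ht hd) h) hwd
      rw [mul_inv_rev, ← mul_assoc w t d, mul_assoc (w * t) d, mul_inv_cancel_left,
        (V_comm hw ht).eq, mul_inv_cancel_right] at h1
      exact absurd h1 htU
  have hinter : ∀ t ∈ V, t ∈ P.H z → t ∈ U := by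
    intro t ht htz
    by_contra htU
    have h1 := mul_mem (inv_mem (hUz _ (hcover t ht htU))) htz
    rw [show (t * w⁻¹)⁻¹ * t = w by group] at h1
    exact hwz h1
  have hwU : w ∉ U := fun h => hwz (hUz w h)
  have hp2 : p = 2 := by
    by_contra hp2
    have hw2 : w * w ∉ U := by
      intro h
      obtain ⟨k, hk⟩ := exists_pow_eq_self_of_coprime (x := w) (n := 2)
        (by rw [c.orderOf_V hw (fun e => hwU (by rw [e]; exact one_mem _))]
            exact (Nat.coprime_primes Nat.prime_two c.hp).2 (Ne.symm hp2))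
      rw [pow_two] at hk
      exact hwU (hk ▸ pow_mem h k)
    have h1 := hcover _ (mul_mem hw hw) hw2
    rw [mul_inv_cancel_right] at h1
    exact hwU h1
  refine ⟨hp2, ?_⟩
  have hprodU : ∀ s ∈ V, ∀ t ∈ V, s ∉ U → t ∉ U → s * t⁻¹ ∈ U := fun s hs t ht hsU htU => by
    have h1 := mul_mem (hcover s hs hsU) (inv_mem (hcover t ht htU))
    rwa [show s * w⁻¹ * (t * w⁻¹)⁻¹ = s * t⁻¹ by group] at h1
  have hmove : ∀ u ∈ U, u ≠ 1 → y * u * y⁻¹ ∉ U := by
    intro u hu hu1 hyu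
    have hyH : ∀ t ∈ U, y * t * y⁻¹ ∈ U := fun t ht => hinter _ (hVn.conj_mem t ht.1 y)
      (P.conj_mem_self hz1 (hUz u hu) hu1 (hUz _ hyu) (hUz t ht))
    have hqU : ¬ q ∣ Nat.card U := fun h => by
      obtain ⟨e, he⟩ := exists_prime_orderOf_dvd_card' q h
      rw [← Subgroup.orderOf_coe] at he
      exact hqp ((Nat.prime_dvd_prime_iff_eq hq c.hp).1
        (he ▸ orderOf_dvd_of_pow_eq_one e.2.1.2.1))
    have hyw : y * w * y⁻¹ * w⁻¹ ∈ U := by
      refine hprodU _ (hVn.conj_mem w hw y) w hw (fun h => hwU ?_) hwU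
      obtain ⟨e, he⟩ : ∃ e : U, y * (e : G) * y⁻¹ = y * w * y⁻¹ := by
        let f : U → U := fun t => ⟨y * t * y⁻¹, hyH t t.2⟩
        have hf : Function.Injective f := fun a b e => Subtype.ext
          (mul_left_cancel (mul_right_cancel (congrArg Subtype.val e)))
        obtain ⟨e, he⟩ := Finite.injective_iff_surjective.1 hf ⟨_, h⟩
        exact ⟨e, congrArg Subtype.val he⟩
      rw [← mul_left_cancel (mul_right_cancel he)]
      exact e.2
    obtain ⟨a, ha, hca⟩ := exists_fixed_coset (k := 1) (by rw [pow_one]; exact hy) U hyH hyw hqU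
    have h1 := c.fpf_V hq hqp hy (mul_mem ha.1 hw) hca
    exact hwU (by rw [eq_inv_of_mul_eq_one_right h1]; exact inv_mem ha)
  have hUtwo : ∀ s ∈ U, ∀ t ∈ U, s ≠ 1 → t ≠ 1 → s = t := by
    intro s hs t ht hs1 ht1
    have h1 := hprodU _ (hVn.conj_mem s hs.1 y) _ (hVn.conj_mem t ht.1 y)
      (hmove s hs hs1) (hmove t ht ht1)
    rw [show y * s * y⁻¹ * (y * t * y⁻¹)⁻¹ = y * (s * t⁻¹) * y⁻¹ by group] at h1
    by_contra hst
    exact hmove _ (mul_mem hs (inv_mem ht)) (fun e => hst (mul_inv_eq_one.1 e)) h1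
  have hzU : z ∈ U := hinter z hz (P.mem z)
  have hset : ((torsionCenter (Cfsg.pCore p G) p : Subgroup G) : Set G) = {1, z, w, z * w} := by
    ext t
    simp only [SetLike.mem_coe, Set.mem_insert_iff, Set.mem_singleton_iff]
    constructor
    · intro ht
      by_cases htU : t ∈ U
      · by_cases ht1 : t = 1
        · exact Or.inl ht1
        · exact Or.inr (Or.inl (hUtwo t htU z hzU ht1 hz1))
      · by_cases h1 : t * w⁻¹ = 1
        · exact Or.inr (Or.inr (Or.inl (mul_inv_eq_one.1 h1)))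
        · refine Or.inr (Or.inr (Or.inr ?_))
          rw [← hUtwo _ (hcover t ht htU) z hzU h1 hz1, inv_mul_cancel_right]
    · rintro (rfl | rfl | rfl | rfl)
      exacts [one_mem _, hz, hw, mul_mem hz hw]
  have hw1 : w ≠ 1 := fun e => hwU (by rw [e]; exact one_mem _)
  have hzw : z ≠ w := fun e => hwU (e ▸ hzU)
  have hzw1 : z * w ≠ 1 := fun e => hwU (by
    rw [eq_inv_of_mul_eq_one_right e]; exact inv_mem hzU)
  have h4 : Nat.card ((torsionCenter (Cfsg.pCore p G) p : Subgroup G) : Set G) = 4 := by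
    rw [hset, Nat.card_coe_set_eq, Set.ncard_insert_of_notMem, Set.ncard_insert_of_notMem,
      Set.ncard_pair]
    · intro e; exact hz1 (mul_eq_right.1 e.symm)
    · simp only [Set.mem_insert_iff, Set.mem_singleton_iff, not_or]
      exact ⟨hzw, fun e => hw1 (mul_eq_left.1 e.symm)⟩
    · simp only [Set.mem_insert_iff, Set.mem_singleton_iff, not_or]
      exact ⟨hz1.symm, hw1.symm, hzw1.symm⟩
  exact h4

/-- A four group with the centraliser property forces the symmetric group of degree four. -/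
theorem iso_four (c : ACase P p) (hp2 : p = 2)
    (h4 : Nat.card (torsionCenter (Cfsg.pCore p G) p) = 4) {y : G} {q : ℕ} (hq : q.Prime)
    (hqp : q ≠ p) (hy : orderOf y = q) {g : G} (hg : g ∉ Cfsg.pCore p G)
    (hgp : g ^ p ∈ Cfsg.pCore p G) : Nonempty (G ≃* Equiv.Perm (Fin 4)) := by
  classical
  subst hp2
  haveI hVn := V_normal (G := G) (p := 2)
  haveI hKn := H1.pCore_normal' 2 G
  have hsq : ∀ w ∈ Cfsg.pCore 2 G, w⁻¹ = w := fun w hw =>
    inv_eq_of_mul_eq_one_right (by rw [← pow_two]; exact c.exp_K hw)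
  have hKV : ∀ w ∈ Cfsg.pCore 2 G, w ∈ torsionCenter (Cfsg.pCore 2 G) 2 := fun w hw =>
    ⟨hw, c.exp_K hw, fun n hn => by
      show n * w = w * n
      rw [← hsq _ (mul_mem hn hw), mul_inv_rev, hsq _ hn, hsq _ hw]⟩
  have hKcard : Nat.card (Cfsg.pCore 2 G) = 4 := by
    have e : Cfsg.pCore 2 G = torsionCenter (Cfsg.pCore 2 G) 2 :=
      le_antisymm hKV fun w hw => hw.1
    rw [e]
    exact h4
  set S : Set G := {v | v ∈ torsionCenter (Cfsg.pCore 2 G) 2 ∧ v ≠ 1} with hS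
  have hScard : Nat.card S = 3 := by
    have e : S = (torsionCenter (Cfsg.pCore 2 G) 2 : Set G) \ {1} := by
      ext v; simp [hS]
    rw [Nat.card_coe_set_eq, e, Set.ncard_sdiff (by simp [one_mem]), Set.ncard_singleton,
      ← Nat.card_coe_set_eq]
    show Nat.card (torsionCenter (Cfsg.pCore 2 G) 2) - 1 = 3
    rw [h4]
  have hSc : ∀ (g : G) (v : G), v ∈ S → g * v * g⁻¹ ∈ S := fun g v hv =>
    ⟨hVn.conj_mem v hv.1 g, fun e => hv.2 (conj_eq_one_iff.1 e)⟩
  let ψ : G →* Equiv.Perm S :=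
    { toFun := fun g =>
        { toFun := fun v => ⟨g * v * g⁻¹, hSc g v v.2⟩
          invFun := fun v => ⟨g⁻¹ * v * g⁻¹⁻¹, hSc g⁻¹ v v.2⟩
          left_inv := fun v => Subtype.ext (by simp [mul_assoc])
          right_inv := fun v => Subtype.ext (by simp [mul_assoc]) }
      map_one' := Equiv.ext fun v => Subtype.ext (by simp)
      map_mul' := fun a b => Equiv.ext fun v => Subtype.ext (by simp [mul_assoc]) }
  have hker : ∀ g, ψ g = 1 ↔ g ∈ Cfsg.pCore 2 G := by
    intro g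
    constructor
    · intro h
      refine c.centralizer_le fun v hv => ?_
      by_cases hv1 : v = 1
      · rw [hv1]; exact Commute.one_right g
      · exact mul_inv_eq_iff_eq_mul.1
          (congrArg Subtype.val (Equiv.congr_fun h ⟨v, hv, hv1⟩) : g * v * g⁻¹ = v)
    · intro h
      refine Equiv.ext fun v => Subtype.ext ?_
      show g * v * g⁻¹ = v
      rw [(v.2.1.2.2 g h).eq, mul_inv_cancel_right]
  have hindex : (Cfsg.pCore 2 G).index ∣ 6 := by
    have e : Cfsg.pCore 2 G = ψ.ker := by ext g; rw [MonoidHom.mem_ker, hker]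
    rw [e, Subgroup.index_ker]
    refine (Subgroup.card_subgroup_dvd_card ψ.range).trans ?_
    rw [Nat.card_perm, hScard]
    rfl
  have hG := Subgroup.card_mul_index (Cfsg.pCore 2 G)
  rw [hKcard] at hG
  have hd2 : 2 ∣ (Cfsg.pCore 2 G).index := by
    rw [Subgroup.index_eq_card]
    have ho : orderOf (QuotientGroup.mk' (Cfsg.pCore 2 G) g) = 2 := orderOf_eq_prime
      (by rw [← map_pow]; exact (QuotientGroup.eq_one_iff _).2 hgp)
      (fun e => hg ((QuotientGroup.eq_one_iff g).1 e))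
    exact (dvd_of_eq ho.symm).trans (orderOf_dvd_natCard _)
  have hqi : q ∣ (Cfsg.pCore 2 G).index := by
    rw [Subgroup.index_eq_card]
    have ho : orderOf (QuotientGroup.mk' (Cfsg.pCore 2 G) y) = q := orderOf_eq_prime
      (hp := ⟨hq⟩) (by rw [← map_pow, ← hy, pow_orderOf_eq_one, map_one]) (fun e => by
        have h1 := c.exp_K ((QuotientGroup.eq_one_iff y).1 e)
        exact hqp ((Nat.prime_dvd_prime_iff_eq hq Nat.prime_two).1
          (hy ▸ orderOf_dvd_of_pow_eq_one h1)))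
    exact (dvd_of_eq ho.symm).trans (orderOf_dvd_natCard _)
  have hq6 : q = 3 := by
    rcases (hq.dvd_mul).1 (hqi.trans hindex : q ∣ 2 * 3) with h | h
    · exact absurd ((Nat.prime_dvd_prime_iff_eq hq Nat.prime_two).1 h) hqp
    · exact (Nat.prime_dvd_prime_iff_eq hq Nat.prime_three).1 h
  subst hq6
  have hi6 : (Cfsg.pCore 2 G).index = 6 := by
    have h6 := Nat.Coprime.mul_dvd_of_dvd_of_dvd (by norm_num : Nat.Coprime 2 3) hd2 hqi
    exact Nat.dvd_antisymm hindex h6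
  have h24 : Nat.card G = 24 := by rw [← hG, hi6]
  haveI := Fact.mk Nat.prime_three
  have hcommQ : ∀ (Q : Sylow 3 G) (z : G), z ∈ Cfsg.pCore 2 G →
      (∀ a ∈ (Q : Subgroup G), z * a * z⁻¹ ∈ (Q : Subgroup G)) → z = 1 := by
    intro Q z hz hzQ
    obtain ⟨a, ha⟩ := exists_prime_orderOf_dvd_card' (G := (Q : Subgroup G)) 3 (by
      refine Sylow.dvd_card_of_dvd_card Q ?_
      rw [h24]; norm_num)
    rw [← Subgroup.orderOf_coe] at ha
    refine c.fpf_K hq hqp ha hz ?_
    have h1 : z * a * z⁻¹ * (a : G)⁻¹ ∈ (Q : Subgroup G) := mul_mem (hzQ a a.2) (inv_mem a.2)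
    have h2 : z * a * z⁻¹ * (a : G)⁻¹ ∈ Cfsg.pCore 2 G := by
      rw [show z * a * z⁻¹ * (a : G)⁻¹ = z * (a * z⁻¹ * (a : G)⁻¹) by group]
      exact mul_mem hz (hKn.conj_mem _ (inv_mem hz) a)
    have h3 : z * a * z⁻¹ * (a : G)⁻¹ = 1 := by
      obtain ⟨k, hk⟩ := IsPGroup.iff_orderOf.1 Q.isPGroup' ⟨_, h1⟩
      rw [orderOf_mk] at hk
      have h4 := orderOf_dvd_of_pow_eq_one (c.exp_K h2)
      rw [hk] at h4
      exact orderOf_eq_one_iff.1 (hk ▸ Nat.eq_one_of_dvd_coprimes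
        ((by norm_num : Nat.Coprime 3 2).pow_left k) dvd_rfl h4)
    exact (mul_inv_eq_iff_eq_mul.1 (mul_inv_eq_one.1 h3)).symm
  have hn3 : Nat.card (Sylow 3 G) = 4 := by
    have hmod := card_sylow_modEq_one 3 G
    obtain ⟨Q⟩ : Nonempty (Sylow 3 G) := inferInstance
    have hdvd := Sylow.card_dvd_index Q
    have hQ : Nat.card (Q : Subgroup G) = 3 := by
      rw [Sylow.card_eq_multiplicity, h24]
      rw [show (24 : ℕ) = 3 ^ 1 * 8 by norm_num, Nat.factorization_mul (by norm_num) (by norm_num),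
        Finsupp.add_apply, Nat.factorization_eq_zero_of_not_dvd (n := 8) (p := 3) (by norm_num),
        Nat.factorization_pow_self Nat.prime_three]
      norm_num
    have hidx := Subgroup.card_mul_index (Q : Subgroup G)
    rw [hQ, h24] at hidx
    rw [show (Q : Subgroup G).index = 8 by omega] at hdvd
    have hle := Nat.le_of_dvd (by norm_num) hdvd
    have hne1 : Nat.card (Sylow 3 G) ≠ 1 := by
      intro e
      haveI : Subsingleton (Sylow 3 G) := (Nat.card_eq_one_iff_unique.1 e).1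
      obtain ⟨v, hv, hv1⟩ := c.exists_ne
      refine hv1 (hcommQ Q v hv.1 fun a ha => ?_)
      exact (Sylow.normal_of_subsingleton Q).conj_mem a ha v
    have hpos : 0 < Nat.card (Sylow 3 G) := Nat.card_pos
    have hm : Nat.card (Sylow 3 G) % 3 = 1 := hmod
    interval_cases hc : Nat.card (Sylow 3 G) <;> omega
  let φ := MulAction.toPermHom G (Sylow 3 G)
  have hkφ : φ.ker = ⊥ := by
    have hfix : ∀ r ∈ φ.ker, ∀ Q : Sylow 3 G, ∀ a ∈ (Q : Subgroup G),
        r * a * r⁻¹ ∈ (Q : Subgroup G) := by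
      intro r hr Q a ha
      have h1 : r • Q = Q := Equiv.congr_fun (MonoidHom.mem_ker.1 hr) Q
      have h2 : r * a * r⁻¹ ∈ ((r • Q : Sylow 3 G) : Subgroup G) := by
        rw [Sylow.coe_subgroup_smul, Subgroup.mem_pointwise_smul_iff_inv_smul_mem]
        simpa [MulAut.smul_def, mul_assoc] using ha
      rwa [h1] at h2
    rw [Subgroup.eq_bot_iff_forall]
    intro r hr
    obtain ⟨Q⟩ : Nonempty (Sylow 3 G) := inferInstance
    have hrK : r ∈ Cfsg.pCore 2 G := by
      refine c.centralizer_le fun v hv => ?_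
      have h1 : r * v * r⁻¹ * v⁻¹ ∈ Cfsg.pCore 2 G :=
        mul_mem (hVn.conj_mem v hv r).1 (inv_mem hv.1)
      have h2 : r * v * r⁻¹ * v⁻¹ ∈ φ.ker := by
        rw [show r * v * r⁻¹ * v⁻¹ = r * (v * r⁻¹ * v⁻¹) by group]
        exact mul_mem hr ((MonoidHom.normal_ker φ).conj_mem _ (inv_mem hr) v)
      exact mul_inv_eq_iff_eq_mul.1 (mul_inv_eq_one.1 (hcommQ Q _ h1 (hfix _ h2 Q)))
    exact hcommQ Q r hrK (hfix r hr Q)
  have hbij : Function.Bijective φ := by
    rw [Nat.bijective_iff_injective_and_card]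
    exact ⟨(MonoidHom.ker_eq_bot_iff φ).1 hkφ, by rw [Nat.card_perm, hn3, h24]; rfl⟩
  exact ⟨(MulEquiv.ofBijective φ hbij).trans (Finite.equivFinOfCardEq hn3).permCongrHom⟩

end ACase

/-- Partitions of groups with an abelian normal subgroup but no normal component. -/
theorem abelian_case (P : Part G) {p : ℕ} (c : ACase P p) :
    Nonempty (G ≃* Equiv.Perm (Fin 4)) ∨ Split G := by
  classical
  haveI := Fact.mk c.hp
  haveI hKn := H1.pCore_normal' p G
  set K := Cfsg.pCore p G with hK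
  obtain ⟨v₀, hv₀, hv₀1⟩ := c.exists_ne
  by_cases hKtop : K = ⊤
  · refine Or.inr (Or.inl ⟨p, c.hp, fun e => hv₀1 ?_⟩)
    have hle : Subgroup.closure {g : G | g ^ p ≠ 1} ≤ ⊥ := (Subgroup.closure_le ⊥).2
      fun g hg => absurd (c.exp_K (by rw [← hK, hKtop]; exact mem_top g)) hg
    exact Subgroup.mem_bot.1 (hle (e ▸ mem_top v₀))
  by_cases hpi : ¬ p ∣ K.index
  · refine Or.inr (Or.inr (frobenius_of_fpf K (fun e => hv₀1 (Subgroup.mem_bot.1 (e ▸ hv₀.1)))
      hKtop fun g hg w hw hc => ?_))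
    obtain ⟨q, hq, hqd, hqp⟩ : ∃ q, q.Prime ∧ q ∣ orderOf g ∧ q ≠ p := by
      by_contra h
      push Not at h
      refine hg ?_
      have hpp := Nat.eq_prime_pow_of_unique_prime_dvd (orderOf_pos g).ne'
        fun {d} hd hdd => h d hd hdd
      have hco : (K.index).Coprime (orderOf g) := by
        rw [hpp]
        exact (((c.hp.coprime_iff_not_dvd).2 hpi).symm).pow_right _
      obtain ⟨m, hm⟩ := exists_pow_eq_self_of_coprime hco
      exact hm ▸ pow_mem (Subgroup.pow_index_mem K g) m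
    exact c.fpf_K hq hqp (orderOf_pow_orderOf_div (orderOf_pos g).ne' hqd) hw (hc.pow_left _)
  push Not at hpi
  set f := QuotientGroup.mk' K with hf
  have hf1 : ∀ g, f g = 1 ↔ g ∈ K := fun g => QuotientGroup.eq_one_iff g
  have hcore : Cfsg.pCore p (G ⧸ K) = ⊥ := H1.pCore_quotient_pCore p G
  -- a non-trivial section of order prime to `p` normalised by an element of order `p`
  obtain ⟨x, S, hx, hS, hSne, hnorm⟩ : ∃ (x : G ⧸ K) (S : Subgroup (G ⧸ K)), orderOf x = p ∧
      ¬ p ∣ Nat.card S ∧ S ≠ ⊥ ∧ ∀ s ∈ S, x * s * x⁻¹ ∈ S := by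
    obtain ⟨x, hx⟩ := exists_prime_orderOf_dvd_card' (G := G ⧸ K) p
      (by rw [← Subgroup.index_eq_card]; exact hpi)
    by_cases hp2 : p = 2
    · subst hp2
      obtain ⟨h, hh1, hodd, hinv⟩ := H65.exists_odd_inverted hx
        (fun h => by rw [hcore, Subgroup.mem_bot] at h; rw [h, orderOf_one] at hx; omega)
      refine ⟨x, zpowers h, hx, ?_, fun e => hh1 (zpowers_eq_bot.1 e), fun s hs => ?_⟩
      · rw [Nat.card_zpowers]
        exact fun h2 => (Nat.not_even_iff_odd.2 hodd) (even_iff_two_dvd.2 h2)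
      · obtain ⟨i, rfl⟩ := mem_zpowers_iff.1 hs
        rw [← conj_zpow, hinv]
        exact zpow_mem (inv_mem (mem_zpowers _)) i
    rcases Nat.even_or_odd (Nat.card (G ⧸ K)) with heven | hodd
    · exfalso
      obtain ⟨t, ht⟩ := exists_prime_orderOf_dvd_card' (G := G ⧸ K) 2 heven.two_dvd
      obtain ⟨t, rfl⟩ := QuotientGroup.mk'_surjective _ t
      obtain ⟨k, j, hk, hkj⟩ := exists_q_power Nat.prime_two K (g := t) (by rw [ht])
      have hj : j ≠ 0 := fun e => hk (by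
        rw [orderOf_eq_one_iff.1 (by simpa [e] using hkj : orderOf (t ^ k) = 1)]; exact one_mem _)
      set i := (t ^ k) ^ (orderOf (t ^ k) / 2) with hi
      have hio : orderOf i = 2 := orderOf_pow_orderOf_div (orderOf_pos _).ne'
        (by rw [hkj]; exact dvd_pow_self 2 hj)
      have hii : i * i = 1 := by rw [← pow_two, ← hio]; exact pow_orderOf_eq_one i
      have hiK : i ∉ K := fun h => hp2 ((Nat.prime_dvd_prime_iff_eq Nat.prime_two c.hp).1
        (hio ▸ orderOf_dvd_of_pow_eq_one (c.exp_K h))).symm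
      have hVn := ACase.V_normal (G := G) (p := p)
      have hinv : ∀ v ∈ torsionCenter K p, i * v * i⁻¹ = v⁻¹ := by
        intro v hv
        have hivi := hVn.conj_mem v hv i
        have hw : v * (i * v * i⁻¹) = 1 := by
          refine c.fpf_V Nat.prime_two (Ne.symm hp2) hio (mul_mem hv hivi) ?_
          have h1 : v * (i * v * i⁻¹) = (i * v * i⁻¹) * v := (hivi.2.2 v hv.1).eq
          have hii' : i⁻¹ = i := inv_eq_of_mul_eq_one_right hii
          show i * (v * (i * v * i⁻¹)) = v * (i * v * i⁻¹) * i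
          nth_rewrite 2 [h1]
          calc i * (v * (i * v * i⁻¹)) = i * v * i * (v * i) := by simp [hii', mul_assoc]
            _ = _ := by simp [hii', mul_assoc]
        exact eq_inv_of_mul_eq_one_right hw
      have hcen : ∀ a, a * f i * a⁻¹ = f i := by
        intro a
        obtain ⟨g, rfl⟩ := QuotientGroup.mk'_surjective _ a
        rw [← map_inv, ← map_mul, ← map_mul, ← mul_inv_eq_one, ← map_inv, ← map_mul, hf1]
        refine c.centralizer_le fun v hv => ?_
        have h2 : g * i * g⁻¹ * v * (g * i * g⁻¹)⁻¹ = v⁻¹ := by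
          calc _ = g * (i * (g⁻¹ * v * g⁻¹⁻¹) * i⁻¹) * g⁻¹ := by simp [mul_assoc]
            _ = _ := by rw [hinv _ (hVn.conj_mem v hv g⁻¹)]; simp [mul_assoc]
        have hiv : i⁻¹ * v * i = v⁻¹ := by
          have := hinv v hv
          rwa [inv_eq_of_mul_eq_one_right hii] at this ⊢
        have h3 : g * i * g⁻¹ * i⁻¹ * v * (g * i * g⁻¹ * i⁻¹)⁻¹ = v := by
          calc _ = g * i * g⁻¹ * (i⁻¹ * v * i) * (g * i * g⁻¹)⁻¹ := by simp [mul_assoc]
            _ = (g * i * g⁻¹ * v * (g * i * g⁻¹)⁻¹)⁻¹ := by rw [hiv]; simp [mul_assoc]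
            _ = _ := by rw [h2, inv_inv]
        exact mul_inv_eq_iff_eq_mul.1 h3
      have hfi : orderOf (f i) = 2 := orderOf_eq_prime (by rw [← map_pow, pow_two, hii, map_one])
        (fun e => hiK ((hf1 i).1 e))
      have h1 := c.no_commute (a := x) (b := f i) (orderOf_dvd_iff_pow_eq_one.1 hx.dvd)
        (fun e => c.hp.ne_one (hx.symm.trans (orderOf_eq_one_iff.2 e)))
        (by rw [hfi]; exact fun h => hp2 ((Nat.prime_dvd_prime_iff_eq c.hp Nat.prime_two).1 h))
        (mul_inv_eq_iff_eq_mul.1 (hcen x))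
      rw [h1, orderOf_one] at hfi
      omega
    haveI : Group.IsSolvable (G ⧸ K) := H16.FT.oddOrder hodd
    haveI : Nontrivial (G ⧸ K) := ⟨⟨x, 1, fun e => c.hp.ne_one (hx.symm.trans (orderOf_eq_one_iff.2 e))⟩⟩
    obtain ⟨A, hA, hAne, hAc⟩ := H11.CTI.exists_abelian_normal (G := G ⧸ K)
    obtain ⟨a, ha, ha1⟩ := (A.bot_or_exists_ne_one).resolve_left hAne
    obtain ⟨q, hq, hqd⟩ := Nat.exists_prime_and_dvd (n := orderOf a)
      (fun e => ha1 (orderOf_eq_one_iff.1 e))
    haveI := Fact.mk hq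
    let Aq : Subgroup (G ⧸ K) :=
      { carrier := {z | z ∈ A ∧ z ^ q = 1}
        one_mem' := ⟨one_mem A, one_pow q⟩
        mul_mem' := fun {u v} hu hv => ⟨mul_mem hu.1 hv.1, by
          rw [(show Commute u v from hAc u hu.1 v hv.1).mul_pow, hu.2, hv.2, one_mul]⟩
        inv_mem' := fun {u} hu => ⟨inv_mem hu.1, by rw [inv_pow, hu.2, inv_one]⟩ }
    haveI hAqn : Aq.Normal := ⟨fun u hu g => ⟨hA.conj_mem u hu.1 g, by
      rw [conj_pow, hu.2, mul_one, mul_inv_cancel]⟩⟩
    have hAqp : IsPGroup q Aq := fun u => ⟨1, Subtype.ext (by simpa using u.2.2)⟩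
    have hAq1 : Aq ≠ ⊥ := fun e => hq.ne_one (by
      have hm : a ^ (orderOf a / q) ∈ Aq := ⟨pow_mem ha _, by
        nth_rewrite 2 [← orderOf_pow_orderOf_div (orderOf_pos a).ne' hqd]
        exact pow_orderOf_eq_one _⟩
      rw [e, Subgroup.mem_bot] at hm
      rw [← orderOf_pow_orderOf_div (orderOf_pos a).ne' hqd, hm, orderOf_one])
    have hqp : q ≠ p := by
      rintro rfl
      exact hAq1 (le_bot_iff.1 (hcore ▸ H1.le_pCore hAqp))
    refine ⟨x, Aq, hx, ?_, hAq1, fun s hs => hAqn.conj_mem s hs x⟩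
    obtain ⟨n, hn⟩ := IsPGroup.iff_card.1 hAqp
    rw [hn]
    exact fun h => hqp ((Nat.prime_dvd_prime_iff_eq c.hp hq).1 (c.hp.dvd_of_dvd_pow h)).symm
  have hxS : x ∉ S := fun h => hS ((dvd_of_eq hx.symm).trans (Subgroup.orderOf_dvd_natCard S h))
  have hxp : x ^ p = 1 := orderOf_dvd_iff_pow_eq_one.1 hx.dvd
  have hpow : ∀ s ∈ S, (s * x) ^ p = 1 := by
    intro s hs
    have h1 : (s * x) ^ p ∈ S := by
      have h2 := H56.inv_mul_pow_cancel_mem S hnorm hs p
      rwa [hxp, inv_one, mul_one] at h2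
    have hb : ¬ p ∣ orderOf ((s * x) ^ p) :=
      fun h => hS (h.trans (Subgroup.orderOf_dvd_natCard S h1))
    set t := (s * x) ^ p with ht
    refine c.no_commute (a := (s * x) ^ orderOf t) ?_ ?_ hb ((Commute.refl (s * x)).pow_pow _ _)
    · rw [← pow_mul, mul_comm, pow_mul]
      exact pow_orderOf_eq_one t
    · intro e
      obtain ⟨m, hm⟩ := exists_pow_eq_self_of_coprime (x := s * x) (n := p)
        ((c.hp.coprime_iff_not_dvd.2 hb).coprime_dvd_right (orderOf_dvd_of_pow_eq_one e))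
      have h3 : s * x ∈ S := hm ▸ pow_mem h1 m
      exact hxS (by simpa using mul_mem (inv_mem hs) h3)
  set V := torsionCenter K p with hV
  haveI hVn : V.Normal := ACase.V_normal
  haveI : IsMulCommutative V := ⟨⟨fun a b => Subtype.ext (ACase.V_comm a.2 b.2).eq⟩⟩
  have hKker : K ≤ (MulAut.conjNormal (H := V)).ker := fun k hk => by
    rw [MonoidHom.mem_ker]
    refine MulEquiv.ext fun v => Subtype.ext ?_
    rw [MulAut.conjNormal_apply, MulAut.one_apply]
    show k * v * k⁻¹ = v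
    rw [(v.2.2.2 k hk).eq, mul_inv_cancel_right]
  let φ : G ⧸ K →* MulAut V := QuotientGroup.lift K (MulAut.conjNormal (H := V)) hKker
  obtain ⟨s, hs, v, hv⟩ : ∃ s ∈ S, ∃ v : V, ∏ i ∈ Finset.range p, φ ((s * x) ^ i) v ≠ 1 := by
    by_contra hall
    push Not at hall
    refine hSne ((Subgroup.eq_bot_iff_forall S).2 fun s hs => ?_)
    have h := H56.averaged_trivial φ S hnorm c.hp hpow hall (fun v hv => by
      refine orderOf_eq_one_iff.1 (Nat.eq_one_of_dvd_coprimes (c.hp.coprime_iff_not_dvd.2 hS)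
        (orderOf_dvd_of_pow_eq_one (Subtype.ext (by simpa using v.2.2.1)))
        (orderOf_dvd_of_pow_eq_one hv))) s hs
    obtain ⟨g, rfl⟩ := QuotientGroup.mk'_surjective _ s
    refine (hf1 g).2 (c.centralizer_le fun v hv => ?_)
    have h1 := congrArg Subtype.val (h ⟨v, hv⟩)
    exact mul_inv_eq_iff_eq_mul.1 ((MulAut.conjNormal_apply _ _).symm.trans h1)
  obtain ⟨g, hg⟩ := QuotientGroup.mk'_surjective K (s * x)
  have hgK : g ∉ K := fun h => hxS (by
    have h1 : s * x = 1 := by rw [← hg]; exact (hf1 g).2 h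
    rw [eq_inv_of_mul_eq_one_right h1]; exact inv_mem hs)
  have hgp : g ^ p ∈ K := (hf1 _).1 (by rw [map_pow, hg]; exact hpow s hs)
  have key : ∀ n : ℕ, ((v : G) * g) ^ n =
      ((∏ i ∈ Finset.range n, φ ((s * x) ^ i) v : V) : G) * g ^ n := by
    intro n
    induction n with
    | zero => simp
    | succ n ih =>
      have hc : φ ((s * x) ^ n) = MulAut.conjNormal (g ^ n) := by
        rw [← hg, ← map_pow]; rfl
      rw [pow_succ, ih, Finset.prod_range_succ, Subgroup.coe_mul, hc, MulAut.conjNormal_apply,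
        pow_succ]
      simp [mul_assoc]
  have hne : ((v : G) * g) ^ p ≠ g ^ p := fun e => hv (Subtype.ext (by
    have h1 := key p
    rw [e] at h1
    exact mul_eq_right.1 h1.symm))
  obtain ⟨a, ha, ha1⟩ := (S.bot_or_exists_ne_one).resolve_left hSne
  obtain ⟨q, hq, hqd⟩ := Nat.exists_prime_and_dvd (n := orderOf a)
    (fun e => ha1 (orderOf_eq_one_iff.1 e))
  have hqp : q ≠ p := fun e => hS (e ▸ hqd.trans (Subgroup.orderOf_dvd_natCard S ha))
  obtain ⟨a, rfl⟩ := QuotientGroup.mk'_surjective _ a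
  have hy := orderOf_pow_orderOf_div (orderOf_pos a).ne' (hqd.trans (orderOf_map_dvd f a))
  obtain ⟨hp2, h4⟩ := c.four hgK hgp v.2 hne hq hqp hy
  exact Or.inl (c.iso_four hp2 h4 hq hqp hy hgK hgp)

end Cfsg.Agent.H9.Partition
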