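import Mathlib

/-!
Partitions of a finite group that are invariant under conjugation.
-/

set_option autoImplicit false
set_option linter.unusedSectionVars false
set_option linter.style.haveILetI false

namespace Cfsg.Agent.H9.Partition

open Subgroup
open scoped Pointwise

universe u

/-- An invariant non-trivial partition, given by the component of each element. -/
structure Part (G : Type u) [Group G] where
  /-- the component of an element -/
  H : G → Subgroup G
  mem : ∀ x, x ∈ H x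
  eq : ∀ {x y : G}, x ≠ 1 → y ≠ 1 → y ∈ H x → H y = H x
  ne_top : ∀ {x : G}, x ≠ 1 → H x ≠ ⊤
  conj : ∀ g x : G, H (g * x * g⁻¹) = (H x).map (MulAut.conj g).toMonoidHom

variable {G : Type u} [Group G]

/-- Every non-trivial partition refines to an invariant one. -/
theorem exists_part (S : Set (Subgroup G)) (hS2 : ∃ H ∈ S, ∃ K ∈ S, H ≠ K)
    (hS1 : ∀ H ∈ S, H ≠ ⊥) (hpart : ∀ g : G, g ≠ 1 → ∃! H : Subgroup G, H ∈ S ∧ g ∈ H) :
    Nonempty (Part G) := by
  classical
  let C : G → Subgroup G := fun x => if h : x = 1 then ⊥ else (hpart x h).exists.choose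
  have hC : ∀ x, x ≠ 1 → C x ∈ S ∧ x ∈ C x := fun x hx => by
    simp only [C, dif_neg hx]
    exact (hpart x hx).exists.choose_spec
  have hCeq : ∀ x K, x ≠ 1 → K ∈ S → x ∈ K → C x = K := fun x K hx hK hxK =>
    (hpart x hx).unique (hC x hx) ⟨hK, hxK⟩
  have hmemC : ∀ x, x ∈ C x := fun x => by
    by_cases hx : x = 1
    · rw [hx]; exact one_mem _
    · exact (hC x hx).2
  have htop : ∀ K ∈ S, K ≠ ⊤ := by
    rintro K hK rfl
    obtain ⟨A, hA, B, hB, hne⟩ := hS2
    have key : ∀ A ∈ S, A = (⊤ : Subgroup G) := fun A hA => by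
      obtain ⟨a, ha, ha1⟩ := (Subgroup.bot_or_exists_ne_one A).resolve_left (hS1 A hA)
      rw [← hCeq a A ha1 hA ha, hCeq a ⊤ ha1 hK (mem_top a)]
    exact hne ((key A hA).trans (key B hB).symm)
  let H : G → Subgroup G := fun x => ⨅ g : G, (C (g * x * g⁻¹)).comap (MulAut.conj g).toMonoidHom
  have hH : ∀ x y, y ∈ H x ↔ ∀ g, g * y * g⁻¹ ∈ C (g * x * g⁻¹) := fun x y => by simp [H]
  refine ⟨⟨H, fun x => (hH x x).2 fun g => hmemC _, fun {x y} hx hy hyx => ?_, fun {x} hx e => ?_,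
    fun h x => ?_⟩⟩
  · have key : ∀ g, C (g * y * g⁻¹) = C (g * x * g⁻¹) := fun g =>
      hCeq _ _ (fun e => hy (conj_eq_one_iff.1 e))
        (hC _ (fun e => hx (conj_eq_one_iff.1 e))).1 ((hH x y).1 hyx g)
    exact iInf_congr fun g => by rw [key g]
  · refine htop _ (hC x hx).1 (eq_top_iff.2 fun y _ => ?_)
    have := (hH x y).1 (e ▸ mem_top y) 1
    simpa using this
  · ext y
    rw [hH, Subgroup.mem_map_equiv, hH]
    refine ⟨fun hy g => ?_, fun hy g => ?_⟩
    · have := hy (g * h⁻¹)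
      simpa [mul_assoc] using this
    · have := hy (g * h)
      simpa [mul_assoc] using this

namespace Part

variable (P : Part G)

theorem eq_of_mem {x y a : G} (hx : x ≠ 1) (hy : y ≠ 1) (ha : a ≠ 1) (hax : a ∈ P.H x)
    (hay : a ∈ P.H y) : P.H x = P.H y :=
  (P.eq hx ha hax).symm.trans (P.eq hy ha hay)

theorem eq_pow {x : G} (k : ℕ) (h : x ^ k ≠ 1) : P.H (x ^ k) = P.H x :=
  P.eq (fun e => h (by rw [e, one_pow])) h (pow_mem (P.mem x) k)

theorem conj_mem {x a : G} (g : G) (ha : a ∈ P.H x) : g * a * g⁻¹ ∈ P.H (g * x * g⁻¹) := by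
  rw [P.conj]
  exact ⟨a, ha, rfl⟩

/-- An element sending a non-trivial element of a component into it normalises the component. -/
theorem conj_mem_self {x a b g : G} (hx : x ≠ 1) (ha : a ∈ P.H x) (ha1 : a ≠ 1)
    (hga : g * a * g⁻¹ ∈ P.H x) (hb : b ∈ P.H x) : g * b * g⁻¹ ∈ P.H x := by
  have hga1 : g * a * g⁻¹ ≠ 1 := fun e => ha1 (conj_eq_one_iff.1 e)
  rw [P.eq_of_mem hx (fun e => hx (conj_eq_one_iff.1 e)) hga1 hga (P.conj_mem g ha)]
  exact P.conj_mem g hb

theorem mem_normalizer [Finite G] {x a g : G} (hx : x ≠ 1) (ha : a ∈ P.H x) (ha1 : a ≠ 1)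
    (hga : g * a * g⁻¹ ∈ P.H x) : g ∈ normalizer (P.H x : Set G) :=
  mem_normalizer_fintype fun _ hb => P.conj_mem_self hx ha ha1 hga hb

theorem commute_mem_normalizer [Finite G] {x a g : G} (hx : x ≠ 1) (ha : a ∈ P.H x) (ha1 : a ≠ 1)
    (hga : Commute g a) : g ∈ normalizer (P.H x : Set G) :=
  P.mem_normalizer hx ha ha1 (by rwa [hga.eq, mul_inv_cancel_right])

/-- The commutator trick. -/
theorem comm_mem [Finite G] {x a g b : G} (hx : x ≠ 1) (ha : a ∈ P.H x) (ha1 : a ≠ 1)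
    (hga : Commute g a) (hb : b ∈ P.H x) : g * b * g⁻¹ * b⁻¹ ∈ P.H x :=
  mul_mem (P.conj_mem_self hx ha ha1 (by rwa [hga.eq, mul_inv_cancel_right]) hb) (inv_mem hb)

theorem mem_symm {x y : G} (hx : x ≠ 1) (hy : y ≠ 1) (h : y ∈ P.H x) : x ∈ P.H y :=
  P.eq hx hy h ▸ P.mem x

/-- Commuting elements of different components have order dividing each other. -/
theorem orderOf_dvd_of_commute {x y : G} (hx : x ≠ 1) (hy : y ≠ 1) (hc : Commute x y)
    (hn : y ∉ P.H x) : orderOf y ∣ orderOf x := by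
  refine orderOf_dvd_of_pow_eq_one ?_
  by_contra h
  have hz : x * y ≠ 1 := fun e => hn (by
    rw [eq_inv_of_mul_eq_one_right e]
    exact inv_mem (P.mem x))
  have h1 : y ^ orderOf x ∈ P.H (x * y) := by
    have h2 := pow_mem (P.mem (x * y)) (orderOf x)
    rwa [hc.mul_pow, pow_orderOf_eq_one, one_mul] at h2
  have h3 : P.H (x * y) = P.H y := (P.eq hz h h1).symm.trans (P.eq_pow _ h)
  have h4 : x ∈ P.H y := by
    have h5 := mul_mem (h3 ▸ P.mem (x * y)) (inv_mem (P.mem y))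
    rwa [mul_inv_cancel_right] at h5
  exact hn (P.mem_symm hy hx h4)

/-- Commuting elements of different components have the same prime order. -/
theorem prime_of_commute [Finite G] {x y : G} (hx : x ≠ 1) (hy : y ≠ 1) (hc : Commute x y)
    (hn : y ∉ P.H x) : (orderOf x).Prime ∧ orderOf y = orderOf x := by
  have hn' : x ∉ P.H y := fun h => hn (P.mem_symm hy hx h)
  have he : orderOf y = orderOf x := Nat.dvd_antisymm (P.orderOf_dvd_of_commute hx hy hc hn)
    (P.orderOf_dvd_of_commute hy hx hc.symm hn')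
  refine ⟨?_, he⟩
  obtain ⟨p, hp, hd⟩ := Nat.exists_prime_and_dvd (n := orderOf x)
    (fun e => hx (orderOf_eq_one_iff.1 e))
  by_contra hnp
  have hlt : p < orderOf x := lt_of_le_of_ne (Nat.le_of_dvd (orderOf_pos x) hd)
    fun e => hnp (e ▸ hp)
  have hxp : x ^ p ≠ 1 := fun e =>
    absurd (Nat.le_of_dvd hp.pos (orderOf_dvd_of_pow_eq_one e)) (by omega)
  have h1 : orderOf y ∣ orderOf (x ^ p) :=
    P.orderOf_dvd_of_commute hxp hy (hc.pow_left p) (by rwa [P.eq_pow p hxp])
  rw [he, orderOf_pow' x hp.ne_zero, Nat.gcd_eq_right hd] at h1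
  have h2 : orderOf x / p < orderOf x := Nat.div_lt_self (orderOf_pos x) hp.one_lt
  have h3 : 0 < orderOf x / p := Nat.div_pos hlt.le hp.pos
  exact absurd (Nat.le_of_dvd h3 h1) (by omega)

theorem mem_of_commute [Finite G] {x y : G} (hx : x ≠ 1) (hnp : ¬ (orderOf x).Prime)
    (hc : Commute x y) : y ∈ P.H x := by
  by_contra h
  exact hnp (P.prime_of_commute hx (fun e => h (by rw [e]; exact one_mem _)) hc h).1

theorem mem_of_orderOf_ne [Finite G] {x y : G} (hx : x ≠ 1) (hne : orderOf y ≠ orderOf x)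
    (hc : Commute x y) : y ∈ P.H x := by
  by_contra h
  exact hne (P.prime_of_commute hx (fun e => h (by rw [e]; exact one_mem _)) hc h).2

theorem mem_of_coprime [Finite G] {x y : G} (hx : x ≠ 1)
    (hco : (orderOf x).Coprime (orderOf y)) (hc : Commute x y) : y ∈ P.H x := by
  refine P.mem_of_orderOf_ne hx (fun e => hx (orderOf_eq_one_iff.1 ?_)) hc
  rwa [e, Nat.coprime_self] at hco

end Part

section Fixed

variable [Finite G]

/-- Fixed points of a `p`-element acting by conjugation on a set. -/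
theorem conj_fixed_modEq {p k : ℕ} [Fact p.Prime] {y : G} (hy : orderOf y = p ^ k) (X : Set G)
    (hX : ∀ g ∈ X, y * g * y⁻¹ ∈ X) :
    Nat.card X ≡ Nat.card {g : X // Commute y (g : G)} [MOD p] := by
  classical
  let f : X → X := fun g => ⟨y * g * y⁻¹, hX g g.2⟩
  have hf : Function.Injective f := fun a b e =>
    Subtype.ext (mul_left_cancel (mul_right_cancel (congrArg Subtype.val e)))
  let σ : Equiv.Perm X := Equiv.ofBijective f (Finite.injective_iff_bijective.1 hf)
  have hpow : ∀ (n : ℕ) (g : X), ((σ ^ n) g : G) = y ^ n * g * (y ^ n)⁻¹ := by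
    intro n
    induction n with
    | zero => intro g; simp
    | succ n ih =>
      intro g
      rw [pow_succ' σ, Equiv.Perm.mul_apply]
      show y * ((σ ^ n) g : G) * y⁻¹ = _
      rw [ih, pow_succ' y]
      group
  have hσ : IsPGroup p (zpowers σ) := by
    have h1 : orderOf σ ∣ p ^ k := orderOf_dvd_of_pow_eq_one (Equiv.ext fun g => Subtype.ext (by
      rw [hpow, ← hy, pow_orderOf_eq_one]
      simp))
    obtain ⟨j, -, hj⟩ := (Nat.dvd_prime_pow Fact.out).1 h1
    exact IsPGroup.of_card (n := j) (by rw [Nat.card_zpowers, hj])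
  suffices h : ∀ g : X, g ∈ MulAction.fixedPoints (zpowers σ) X ↔ Commute y (g : G) by
    refine (hσ.card_modEq_card_fixedPoints X).trans ?_
    rw [Nat.card_congr (Equiv.subtypeEquivRight h)]
  intro g

  rw [MulAction.mem_fixedPoints]
  constructor
  · intro h
    have h1 : y * (g : G) * y⁻¹ = g := congrArg Subtype.val (h ⟨σ, mem_zpowers σ⟩)
    exact mul_inv_eq_iff_eq_mul.1 h1
  · intro h m
    have h1 : σ g = g := Subtype.ext (by
      show y * (g : G) * y⁻¹ = g
      rw [h.eq, mul_inv_cancel_right])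
    obtain ⟨n, hn⟩ := mem_zpowers_iff.1 m.2
    show (m : Equiv.Perm X) g = g
    rw [← hn]
    exact Function.IsFixedPt.perm_zpow h1 n

/-- A `p`-element normalising a subgroup of order divisible by `p` fixes a non-trivial element. -/
theorem exists_fixed {p k : ℕ} [Fact p.Prime] {y : G} (hy : orderOf y = p ^ k) (A : Subgroup G)
    (hA : ∀ a ∈ A, y * a * y⁻¹ ∈ A) (hd : p ∣ Nat.card A) :
    ∃ v ∈ A, v ≠ 1 ∧ Commute y v := by
  classical
  have h1 : Nat.card A ≡ Nat.card {g : (A : Set G) // Commute y (g : G)} [MOD p] :=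
    conj_fixed_modEq hy (A : Set G) hA
  have h2 : p ∣ Nat.card {g : (A : Set G) // Commute y (g : G)} :=
    Nat.modEq_zero_iff_dvd.1 (h1.symm.trans (Nat.modEq_zero_iff_dvd.2 hd))
  haveI : Nonempty {g : (A : Set G) // Commute y (g : G)} :=
    ⟨⟨⟨1, one_mem A⟩, Commute.one_right y⟩⟩
  haveI : Nontrivial {g : (A : Set G) // Commute y (g : G)} :=
    Finite.one_lt_card_iff_nontrivial.1
      (lt_of_lt_of_le (Fact.out : p.Prime).one_lt (Nat.le_of_dvd Nat.card_pos h2))
  obtain ⟨⟨⟨v, hv⟩, hvc⟩, hne⟩ := exists_ne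
    (⟨⟨1, one_mem A⟩, Commute.one_right y⟩ : {g : (A : Set G) // Commute y (g : G)})
  exact ⟨v, hv, fun e => hne (by subst e; rfl), hvc⟩

/-- A `p`-element fixing a coset of a subgroup of order prime to `p` centralises one of its
elements. -/
theorem exists_fixed_coset {p k : ℕ} [Fact p.Prime] {y g : G} (hy : orderOf y = p ^ k)
    (A : Subgroup G) (hA : ∀ a ∈ A, y * a * y⁻¹ ∈ A) (hg : y * g * y⁻¹ * g⁻¹ ∈ A)
    (hd : ¬ p ∣ Nat.card A) : ∃ a ∈ A, Commute y (a * g) := by
  classical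
  set X : Set G := {x | x * g⁻¹ ∈ A}
  have hX : ∀ x ∈ X, y * x * y⁻¹ ∈ X := fun x hx => by
    show y * x * y⁻¹ * g⁻¹ ∈ A
    rw [show y * x * y⁻¹ * g⁻¹ = y * (x * g⁻¹) * y⁻¹ * (y * g * y⁻¹ * g⁻¹) by group]
    exact mul_mem (hA _ hx) hg
  have hcard : Nat.card X = Nat.card A :=
    Nat.card_congr ⟨fun x => ⟨(x : G) * g⁻¹, x.2⟩,
      fun a => ⟨(a : G) * g, by show (a : G) * g * g⁻¹ ∈ A; rw [mul_inv_cancel_right]; exact a.2⟩,
      fun x => by simp, fun a => by simp⟩
  have h1 := conj_fixed_modEq hy X hX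
  rw [hcard] at h1
  have h2 : 0 < Nat.card {x : X // Commute y (x : G)} := by
    by_contra h0
    rw [Nat.le_zero.1 (not_lt.1 h0)] at h1
    exact hd (Nat.modEq_zero_iff_dvd.1 h1)
  obtain ⟨⟨⟨x, hx⟩, hc⟩⟩ := (Nat.card_pos_iff.1 h2).1
  exact ⟨x * g⁻¹, hx, by rwa [inv_mul_cancel_right]⟩

end Fixed

/-- A normal subgroup whose non-identity elements are centralised by no element outside it is a
Frobenius kernel. -/
theorem frobenius_of_fpf [Finite G] (N : Subgroup G) [hNn : N.Normal] (hN : N ≠ ⊥) (hN' : N ≠ ⊤)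
    (h : ∀ g : G, g ∉ N → ∀ v ∈ N, Commute g v → v = 1) :
    ∃ K : Subgroup G, K ≠ ⊥ ∧ K ≠ ⊤ ∧ ∀ g : G, g ∉ K → K ⊓ (MulAut.conj g • K) = ⊥ := by
  classical
  have hco : (Nat.card N).Coprime N.index := by
    refine Nat.coprime_of_dvd fun q hq hqN hqi => ?_
    haveI := Fact.mk hq
    obtain ⟨Q⟩ : Nonempty (Sylow q G) := inferInstance
    obtain ⟨g, hgQ, hgN⟩ : ∃ g ∈ (Q : Subgroup G), g ∉ N := by
      by_contra hc
      push Not at hc
      exact Q.not_dvd_index (hqi.trans (index_dvd_of_le hc))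
    obtain ⟨k, hk⟩ := IsPGroup.iff_orderOf.1 Q.isPGroup' ⟨g, hgQ⟩
    rw [orderOf_mk] at hk
    obtain ⟨v, hv, hv1, hc⟩ := exists_fixed hk N (fun a ha => hNn.conj_mem a ha g) hqN
    exact hv1 (h g hgN v hv hc)
  obtain ⟨K, hK⟩ := exists_right_complement'_of_coprime hco
  refine ⟨K, ?_, ?_, fun g hg => ?_⟩
  · rintro rfl
    exact hN' (isComplement'_bot_right.1 hK)
  · rintro rfl
    exact hN (isComplement'_top_right.1 hK)
  · rw [eq_bot_iff]
    intro a hmem
    obtain ⟨ha, ha'⟩ := Subgroup.mem_inf.1 hmem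
    obtain ⟨⟨⟨n, hn⟩, ⟨k, hk⟩⟩, hnk⟩ := hK.2 g
    have hnk' : n * k = g := hnk
    subst hnk'
    rw [Subgroup.mem_pointwise_smul_iff_inv_smul_mem] at ha'
    have h1 : (n * k)⁻¹ * a * (n * k) ∈ K := by simpa [MulAut.smul_def, mul_assoc] using ha'
    have h2 : n⁻¹ * a * n ∈ K := by
      have := mul_mem (mul_mem hk h1) (inv_mem hk)
      simpa [mul_assoc] using this
    have h3 : a⁻¹ * n⁻¹ * a * n ∈ K := by
      have := mul_mem (inv_mem ha) h2
      simpa [mul_assoc] using this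
    have h4 : a⁻¹ * n⁻¹ * a * n ∈ N := by
      refine mul_mem ?_ hn
      have := hNn.conj_mem _ (inv_mem hn) a⁻¹
      simpa using this
    have h5 : a⁻¹ * n⁻¹ * a * n = 1 := by
      have := hK.disjoint
      exact Subgroup.mem_bot.1 (this.le_bot ⟨h4, h3⟩)
    have h6 : Commute a n := by
      have h7 : n * a * (a⁻¹ * n⁻¹ * a * n) = n * a := by rw [h5, mul_one]
      show a * n = n * a
      rw [← h7]
      group
    rw [Subgroup.mem_bot]
    by_contra ha1
    have haN : a ∉ N := fun haN => ha1 (Subgroup.mem_bot.1 (hK.disjoint.le_bot ⟨haN, ha⟩))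
    have hn1 := h a haN n hn h6
    subst hn1
    exact hg (by rw [one_mul]; exact hk)

end Cfsg.Agent.H9.Partition
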