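import Cfsg.Agent.H9.Partition.Abelian
import Cfsg.Agent.H79.SameNorm.Cond
import Cfsg.Agent.H11.CIT.TICase

/-!
Invariant partitions of groups without solvable normal subgroups: the case in which the centraliser of
some involution lies in its component.
-/

set_option autoImplicit false
set_option linter.unusedSectionVars false
set_option linter.style.haveILetI false

namespace Cfsg.Agent.H9.Partition

open Subgroup

universe u

variable {G : Type u} [Group G] [Finite G]

theorem no_isolated (hns : H79.SameNorm.NS G) {t : G} (ht : orderOf t = 2)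
    (hiso : ∀ g : G, Commute t (g * t * g⁻¹) → g * t * g⁻¹ = t) : False := by
  haveI : Fact (Nat.Prime 2) := ⟨Nat.prime_two⟩
  obtain ⟨S, hS⟩ := (IsPGroup.of_card (n := 1) (p := 2) (G := zpowers t)
    (by rw [Nat.card_zpowers, ht, pow_one])).exists_le_sylow
  have hz := H85.zStar (u := t) ⟨ht, hiso⟩
  haveI hn := H1.pPrimeCore_normal' 2 G
  have hO : Cfsg.pPrimeCore 2 G = ⊥ :=
    hns _ hn (H16.FT.oddOrder (Nat.coprime_two_right.1 (H1.card_pPrimeCore_coprime 2 G)))
  have htc : t ∈ center G := by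
    refine mem_center_iff.2 fun g => ?_
    have := hz g
    rw [hO, mem_bot, mul_inv_eq_one, mul_inv_eq_iff_eq_mul] at this
    exact this.symm
  rw [hns.center_eq_bot, mem_bot] at htc
  rw [htc, orderOf_one] at ht
  omega

theorem exists_even_of_normal (hns : H79.SameNorm.NS G) {K : Subgroup G} (hK : K.Normal)
    (h : K ≠ ⊥) : ∃ t ∈ K, orderOf t = 2 := by
  refine H65.exists_two_mem ?_
  rw [← Nat.not_odd_iff_even]
  exact fun hodd => h (hns K hK (H16.FT.oddOrder hodd))

/-- The involution commutes only with elements of its component. -/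
def Inner (P : Part G) (t : G) : Prop := ∀ s, Commute s t → s ∈ P.H t

theorem Inner.conj {P : Part G} {t : G} (h : Inner P t) (g : G) : Inner P (g * t * g⁻¹) := by
  intro s hs
  have h1 : Commute (g⁻¹ * s * g) t := by
    have h2 := congrArg (fun z => g⁻¹ * z * g) hs.eq
    show g⁻¹ * s * g * t = t * (g⁻¹ * s * g)
    simpa [mul_assoc] using h2
  have h3 := P.conj_mem g (h _ h1)
  rwa [show g * (g⁻¹ * s * g) * g⁻¹ = s by group] at h3

/-- A central involution of a Sylow subgroup through `t`. -/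
theorem exists_central_invol {t : G} (ht : orderOf t = 2) :
    ∃ (S : Sylow 2 G) (z : G), t ∈ (S : Subgroup G) ∧ z ∈ (S : Subgroup G) ∧ orderOf z = 2 ∧
      ∀ u ∈ (S : Subgroup G), Commute u z := by
  haveI : Fact (Nat.Prime 2) := ⟨Nat.prime_two⟩
  obtain ⟨S, hS⟩ := (IsPGroup.of_card (n := 1) (p := 2) (G := zpowers t)
    (by rw [Nat.card_zpowers, ht, pow_one])).exists_le_sylow
  obtain ⟨z, hz, hz1, hzc⟩ := H11.CTI.exists_sylow_central S (hS (mem_zpowers t))
    (H65.ne_one_of_two ht)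
  obtain ⟨w, hw, hw2, hwS⟩ := H79.SameNorm.exists_inv_mem S.isPGroup' hz hz1
  refine ⟨S, w, hS (mem_zpowers t), hwS, hw2, fun u hu => ?_⟩
  obtain ⟨i, rfl⟩ := mem_zpowers_iff.1 hw
  exact (show Commute u z from hzc u hu).zpow_right i

variable {P : Part G}

/-- A non-inner involution: an involution outside the component inverts the centraliser inside. -/
theorem inverts_of_outside {t s a : G} (ht : orderOf t = 2) (hst : Commute s t) (hs : s ∉ P.H t)
    (hat : Commute a t) (ha : a ∈ P.H t) : orderOf s = 2 ∧ s * a * s⁻¹ = a⁻¹ := by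
  have ht1 := H65.ne_one_of_two ht
  have key : ∀ w, Commute w t → w ∉ P.H t → orderOf w = 2 := fun w hw hn =>
    (P.prime_of_commute ht1 (fun e => hn (by rw [e]; exact one_mem _)) hw.symm hn).2.trans ht
  have hs2 := key s hst hs
  refine ⟨hs2, ?_⟩
  have hsa : s * a ∉ P.H t := fun h => hs (by simpa using mul_mem h (inv_mem ha))
  have h2 := H65.mul_self_of_two (key _ (hst.mul_left hat) hsa)
  rw [H65.inv_of_two hs2]
  refine eq_inv_of_mul_eq_one_left ?_
  rw [← h2]
  simp [mul_assoc]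

theorem inner_of_mem (hns : H79.SameNorm.NS G) {t v : G} (ht : orderOf t = 2) (hin : Inner P t)
    (hv : orderOf v = 2) (hvt : v ∈ P.H t) : Inner P v := by
  intro s hs
  by_contra hsv
  haveI : Fact (Nat.Prime 2) := ⟨Nat.prime_two⟩
  have ht1 := H65.ne_one_of_two ht
  have hv1 := H65.ne_one_of_two hv
  have hvH : P.H v = P.H t := P.eq ht1 hv1 hvt
  obtain ⟨S, z, htS, hzS, hz, hzc⟩ := exists_central_invol ht
  have hzt : z ∈ P.H t := hin z (hzc t htS).symm
  have hzH : P.H z = P.H t := P.eq ht1 (H65.ne_one_of_two hz) hzt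
  have hzin : Inner P z := by
    intro w hw
    by_contra hwz
    refine hwz ?_
    have htz : t ∈ P.H z := by rw [hzH]; exact P.mem t
    obtain ⟨hw2, hinv⟩ := inverts_of_outside hz hw hwz (hzc t htS) htz
    rw [H65.inv_of_two ht] at hinv
    rw [hzH]
    exact hin w (mul_inv_eq_iff_eq_mul.1 hinv)
  have hSH : (S : Subgroup G) ≤ P.H t := fun u hu => hzH ▸ hzin u (hzc u hu)
  obtain ⟨hs2, -⟩ := inverts_of_outside hv hs hsv (Commute.refl v) (P.mem v)
  have hsN : s ∈ normalizer (P.H t : Set G) := P.commute_mem_normalizer ht1 hvt hv1 hs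
  have hSN : (S : Subgroup G) ≤ normalizer (P.H t : Set G) := hSH.trans le_normalizer
  obtain ⟨S', hS'⟩ := (IsPGroup.of_card (n := 1) (p := 2)
    (G := zpowers (⟨s, hsN⟩ : normalizer (P.H t : Set G)))
    (by rw [Nat.card_zpowers, Subgroup.orderOf_mk, hs2, pow_one])).exists_le_sylow
  obtain ⟨n, hn⟩ := MulAction.exists_smul_eq (normalizer (P.H t : Set G)) (S.subtype hSN) S'
  have h1 : (⟨s, hsN⟩ : normalizer (P.H t : Set G)) ∈ (S' : Subgroup _) := hS' (mem_zpowers _)
  rw [← hn, Sylow.coe_subgroup_smul, Subgroup.mem_pointwise_smul_iff_inv_smul_mem] at h1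
  have h2 : (n : G)⁻¹ * s * n ∈ (S : Subgroup G) := by
    simpa [MulAut.smul_def, mul_assoc, Subgroup.mem_subgroupOf] using h1
  refine hsv ?_
  rw [hvH]
  exact (mem_normalizer_iff''.1 n.2 s).2 (hSH h2)

/-- The data of the inner case. -/
structure InCase (P : Part G) (t : G) : Prop where
  ns : H79.SameNorm.NS G
  nc : ∀ x : G, x ≠ 1 → ¬ (P.H x).Normal
  ht : orderOf t = 2
  inner : Inner P t

namespace InCase

variable {t : G}

theorem cent_invol (c : InCase P t) {v s : G} (hv : orderOf v = 2) (hvH : v ∈ P.H t)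
    (hs : Commute s v) : s ∈ P.H t := by
  rw [← P.eq (H65.ne_one_of_two c.ht) (H65.ne_one_of_two hv) hvH]
  exact inner_of_mem c.ns c.ht c.inner hv hvH s hs

/-- An involution is in the component or conjugate to `t`. -/
theorem mem_or_conj (c : InCase P t) {s : G} (hs : orderOf s = 2) :
    s ∈ P.H t ∨ ∃ d ∈ closure ({t, s} : Set G), d * t * d⁻¹ = s := by
  rcases Nat.even_or_odd (orderOf (t * s)) with he | ho
  · obtain ⟨z, hz, hzt, hzs, -⟩ := H65.exists_commuting c.ht hs he
    exact Or.inl (c.cent_invol hz (c.inner z hzt) hzs.symm)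
  · exact Or.inr (H65.conj_of_odd c.ht hs ho)

theorem invol_mem (c : InCase P t) {s : G} (hs : orderOf s = 2)
    (hsN : s ∈ normalizer (P.H t : Set G)) : s ∈ P.H t := by
  rcases c.mem_or_conj hs with h | ⟨d, hd, rfl⟩
  · exact h
  · refine (mem_normalizer_iff.1 ?_ t).1 (P.mem t)
    refine (closure_le _).2 ?_ hd
    rintro x (rfl | rfl)
    exacts [le_normalizer (P.mem _), hsN]

theorem exists_two (c : InCase P t) : ∃ s ∈ P.H t, orderOf s = 2 ∧ s ≠ t := by
  by_contra h
  push Not at h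
  exact no_isolated c.ns c.ht fun g hg => h _ (c.inner _ hg.symm) (H65.two_conj c.ht g)

theorem se (c : InCase P t) : Cfsg.IsStronglyEmbedded (normalizer (P.H t : Set G)) := by
  have ht1 := H65.ne_one_of_two c.ht
  refine (H65.se_iff (fun e => c.nc t ht1 (normalizer_eq_top_iff.1 e))
    (H65.even_card_of_mem (le_normalizer (P.mem t)) c.ht)).2 fun s g hs hsN hg => ?_
  have h1 := c.invol_mem hs hsN
  have hs' : orderOf (g⁻¹ * s * g) = 2 := by simpa using H65.two_conj hs g⁻¹
  have h2 := c.invol_mem hs' hg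
  have h3 : g⁻¹ ∈ normalizer (P.H t : Set G) :=
    P.mem_normalizer ht1 h1 (H65.ne_one_of_two hs) (by rwa [inv_inv])
  simpa using inv_mem h3

theorem conj_all (c : InCase P t) {u : G} (hu : orderOf u = 2)
    (huN : u ∉ normalizer (P.H t : Set G)) : ∃ g : G, g * t * g⁻¹ = u := by
  rcases c.mem_or_conj hu with h | ⟨d, -, hd⟩
  · exact absurd (le_normalizer h) huN
  · exact ⟨d, hd⟩

theorem cent_out (c : InCase P t) {u s : G} (hu : orderOf u = 2)
    (huN : u ∉ normalizer (P.H t : Set G)) (hs : Commute s u) : s ∈ P.H u := by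
  obtain ⟨g, rfl⟩ := c.conj_all hu huN
  exact c.inner.conj g s hs

/-- An involution outside the normaliser maps no non-identity element of the component into it. -/
theorem inf_trivial (c : InCase P t) {u a : G} (hu : orderOf u = 2)
    (huN : u ∉ normalizer (P.H t : Set G)) (ha : a ∈ P.H t)
    (hau : u * a * u⁻¹ ∈ normalizer (P.H t : Set G)) : a = 1 := by
  by_contra ha1
  have ht1 := H65.ne_one_of_two c.ht
  have hui := H65.inv_of_two hu
  have huu := H65.mul_self_of_two hu
  set a' := u * a * u⁻¹ with ha'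
  set t' := u * t * u⁻¹ with ht'
  have ht'1 : t' ≠ 1 := fun e => ht1 (conj_eq_one_iff.1 e)
  have ha'H : a' ∈ P.H t' := P.conj_mem u ha
  have hne : P.H t' ≠ P.H t := fun e => huN
    (P.mem_normalizer ht1 (P.mem t) ht1 (by rw [← e]; exact P.conj_mem u (P.mem t)))
  have hdis : ∀ w, w ∈ P.H t → w ∈ P.H t' → w = 1 := fun w h1 h2 => by
    by_contra hw
    exact hne (P.eq_of_mem ht'1 ht1 hw h2 h1)
  have hcomm : Commute a a' := by
    have h1 : a * a' * a⁻¹ * a'⁻¹ ∈ P.H t := by
      rw [show a * a' * a⁻¹ * a'⁻¹ = a * (a' * a⁻¹ * a'⁻¹) by group]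
      exact mul_mem ha ((mem_normalizer_iff.1 hau _).1 (inv_mem ha))
    have h2 : a * a' * a⁻¹ * a'⁻¹ ∈ P.H t' := by
      refine mul_mem ?_ (inv_mem ha'H)
      have h3 := P.conj_mem u ((mem_normalizer_iff.1 hau a).1 ha)
      have h4 : u * (a' * a * a'⁻¹) * u⁻¹ = a * a' * a⁻¹ := by
        simp [ha', hui, mul_assoc, H65.mul_mul_self hu, huu]
      rwa [h4] at h3
    exact mul_inv_eq_iff_eq_mul.1 (mul_inv_eq_one.1 (hdis _ h1 h2))
  set d := a * a'⁻¹ with hd
  have hdN : d ∈ normalizer (P.H t : Set G) := mul_mem (le_normalizer ha) (inv_mem hau)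
  have hud : u * d * u = d⁻¹ := by
    have e1 : u * d * u = (u * a * u⁻¹) * (u * a'⁻¹ * u) := by simp [hd, mul_assoc]
    have e2 : u * a'⁻¹ * u = a⁻¹ := by
      simp [ha', hui, mul_assoc, H65.mul_mul_self hu, huu]
    rw [e1, e2, ← ha', hd, mul_inv_rev, inv_inv]
  have hua : u * (a * a') * u = a * a' := by
    have e1 : u * (a * a') * u = (u * a * u⁻¹) * (u * a' * u) := by simp [mul_assoc]
    have e2 : u * a' * u = a := by simp [ha', hui, mul_assoc, H65.mul_mul_self hu, huu]
    rw [e1, e2, ← ha', hcomm.eq]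
  have hcu : Commute (a * a') u := by
    show a * a' * u = u * (a * a')
    conv_lhs => rw [← hua]
    rw [mul_assoc _ u u, huu, mul_one]
  have hu'N : u * d ∉ normalizer (P.H t : Set G) :=
    fun h => huN (by simpa using mul_mem h (inv_mem hdN))
  have hu'2 : orderOf (u * d) = 2 := H65.two_iff.2
    ⟨by rw [← mul_assoc, hud, inv_mul_cancel], fun e => hu'N (by rw [e]; exact one_mem _)⟩
  have hcd : Commute (a * a') d :=
    ((Commute.refl a).mul_left hcomm.symm).mul_right
      ((hcomm.mul_left (Commute.refl a')).inv_right)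
  have hδ1 : a * a' ≠ 1 := fun e => by
    have h := hdis a' (by rw [eq_inv_of_mul_eq_one_right e]; exact inv_mem ha) ha'H
    exact ha1 (conj_eq_one_iff.1 h)
  have hu1 := H65.ne_one_of_two hu
  have h1 := c.cent_out hu huN hcu
  have h2 := c.cent_out hu'2 hu'N (hcu.mul_right hcd)
  have h3 := P.eq_of_mem hu1 (H65.ne_one_of_two hu'2) hδ1 h1 h2
  have hdu : d ∈ P.H u := by
    have := mul_mem (inv_mem (P.mem u)) (h3 ▸ P.mem (u * d))
    rwa [inv_mul_cancel_left] at this
  have hsq : a * a ∈ P.H u := by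
    have h4 := mul_mem hdu h1
    rwa [hd, hcomm.eq, show a * a'⁻¹ * (a' * a) = a * a by group] at h4
  have haa : a * a ≠ 1 := fun e => by
    have ha2 : orderOf a = 2 := H65.two_iff.2 ⟨e, ha1⟩
    refine huN (H65.se_conj_mem c.se (g := u) ha2 (le_normalizer ha) ?_)
    rw [hui]
    rwa [ha', hui] at hau
  refine huN (le_normalizer ?_)
  rw [← P.eq_of_mem hu1 ht1 haa hsq (mul_mem ha ha)]
  exact P.mem u

theorem semiregular (c : InCase P t) {g a : G} (hg : g ∉ normalizer (P.H t : Set G))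
    (ha : a ∈ P.H t) (hga : g * a * g⁻¹ ∈ normalizer (P.H t : Set G)) : a = 1 := by
  obtain ⟨i, hi, hgi⟩ := H67.exists_involTo c.se hg
  have hii := H65.inv_of_two hi
  have hn : i * g ∈ normalizer (P.H t : Set G) := by
    have := inv_mem hgi
    rwa [mul_inv_rev, inv_inv, hii] at this
  have hiN : i ∉ normalizer (P.H t : Set G) := fun h => hg (by
    have := mul_mem (inv_mem h) hn
    rwa [inv_mul_cancel_left] at this)
  refine conj_eq_one_iff.1 (c.inf_trivial hi hiN ((mem_normalizer_iff.1 hn a).1 ha) ?_)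
  have e : i * (i * g * a * (i * g)⁻¹) * i⁻¹ = g * a * g⁻¹ := by
    simp [hii, mul_assoc, H65.mul_mul_self hi, H65.mul_self_of_two hi]
  rwa [e]

/-- A component of an outside involution meets the normaliser trivially. -/
theorem out_inter (c : InCase P t) {z a : G} (hz : orderOf z = 2)
    (hzN : z ∉ normalizer (P.H t : Set G)) (ha : a ∈ P.H z)
    (haN : a ∈ normalizer (P.H t : Set G)) : a = 1 := by
  obtain ⟨g, rfl⟩ := c.conj_all hz hzN
  have h1 := P.conj_mem g⁻¹ ha
  rw [show g⁻¹ * (g * t * g⁻¹) * g⁻¹⁻¹ = t by group] at h1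
  have hg : g ∉ normalizer (P.H t : Set G) := fun h =>
    hzN (le_normalizer ((mem_normalizer_iff.1 h t).1 (P.mem t)))
  have h2 := c.semiregular hg h1 (by
    rw [show g * (g⁻¹ * a * g⁻¹⁻¹) * g⁻¹ = a by group]; exact haN)
  exact conj_eq_one_iff.1 h2

theorem inverted (c : InCase P t) {u d : G} (hu : orderOf u = 2)
    (huN : u ∉ normalizer (P.H t : Set G)) (hd : d ∈ normalizer (P.H t : Set G))
    (hdu : u⁻¹ * d * u ∈ normalizer (P.H t : Set G)) : u * d * u⁻¹ = d⁻¹ := by
  obtain ⟨d', h1, h2, h3, h4⟩ := H67.exists_inverted_conj c.se hu huN c.ht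
    (le_normalizer (P.mem t)) (H65.two_conj c.ht d)
    (le_normalizer ((mem_normalizer_iff.1 hd t).1 (P.mem t)))
  have hc : Commute (d'⁻¹ * d) t := by
    show d'⁻¹ * d * t = t * (d'⁻¹ * d)
    calc d'⁻¹ * d * t = d'⁻¹ * (d * t * d⁻¹) * d := by group
      _ = d'⁻¹ * (d' * t * d'⁻¹) * d := by rw [h4]
      _ = t * (d'⁻¹ * d) := by group
  have h5 := c.inf_trivial hu huN (c.inner _ hc) (by
    rw [show u * (d'⁻¹ * d) * u⁻¹ = (u⁻¹ * d' * u)⁻¹ * (u⁻¹ * d * u) by
      simp [H65.inv_of_two hu, mul_assoc, H65.mul_mul_self hu]]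
    exact mul_mem (inv_mem h2) hdu)
  rw [← inv_mul_eq_one.1 h5]
  exact h3

theorem odd_D (c : InCase P t) {u d : G} (huN : u ∉ normalizer (P.H t : Set G))
    (hd : d ∈ normalizer (P.H t : Set G))
    (hdu : u⁻¹ * d * u ∈ normalizer (P.H t : Set G)) : Odd (orderOf d) :=
  (c.se.2.2 u huN).of_dvd_nat
    (Subgroup.orderOf_dvd_natCard _ (H65.mem_inf_conj.2 ⟨hd, hdu⟩))

/-- The two-point stabiliser acts fixed point freely on the component. -/
theorem fpf (c : InCase P t) {u d m : G} (hu : orderOf u = 2)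
    (huN : u ∉ normalizer (P.H t : Set G)) (hd : d ∈ normalizer (P.H t : Set G))
    (hdu : u⁻¹ * d * u ∈ normalizer (P.H t : Set G)) (hd1 : d ≠ 1) (hm : m ∈ P.H t)
    (hc : Commute d m) : m = 1 := by
  by_contra hm1
  have hinv := c.inverted hu huN hd hdu
  have hui := H65.inv_of_two hu
  have huu := H65.mul_self_of_two hu
  set v := m * u * m⁻¹ with hv
  have hv2 : orderOf v = 2 := H65.two_conj hu m
  have hvinv : v * d * v⁻¹ = d⁻¹ := by
    have e1 : m⁻¹ * d * m = d := by rw [mul_assoc, hc.eq, inv_mul_cancel_left]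
    calc v * d * v⁻¹ = m * (u * (m⁻¹ * d * m) * u⁻¹) * m⁻¹ := by rw [hv]; group
      _ = m * d⁻¹ * m⁻¹ := by rw [e1, hinv]
      _ = d⁻¹ := by rw [hc.inv_left.symm.eq, mul_inv_cancel_right]
  have hxd : Commute (u * v) d := by
    refine mul_inv_eq_iff_eq_mul.1 ?_
    calc u * v * d * (u * v)⁻¹ = u * (v * d * v⁻¹) * u⁻¹ := by group
      _ = (u * d * u⁻¹)⁻¹ := by rw [hvinv]; group
      _ = d := by rw [hinv, inv_inv]
  have hdodd := c.odd_D huN hd hdu
  rcases Nat.even_or_odd (orderOf (u * v)) with he | ho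
  · obtain ⟨z, hz, hzu, hzv, hzx⟩ := H65.exists_commuting hu hv2 he
    have hzN : z ∉ normalizer (P.H t : Set G) := fun h =>
      huN (le_normalizer (c.cent_invol hz (c.invol_mem hz h) hzu.symm))
    have hdz : Commute d z := by
      obtain ⟨i, rfl⟩ := mem_zpowers_iff.1 hzx
      exact hxd.symm.zpow_right i
    exact hd1 (c.out_inter hz hzN (c.cent_out hz hzN hdz) hd)
  · obtain ⟨k, hk⟩ := ho
    set x := u * v with hx
    set e := x ^ k with he
    have hcu : e * u * e⁻¹ = v := by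
      have h1 := H65.conj_prod_zpow hu hv2 (k : ℤ)
      rw [zpow_natCast, zpow_neg, zpow_natCast, ← hx, ← he] at h1
      have h2 : e * u = u * e⁻¹ := by
        rw [← h1]
        simp [hui, mul_assoc, H65.mul_mul_self hu]
      rw [h2, mul_assoc, ← mul_inv_rev, he, ← pow_add]
      have h3 : (x ^ (k + k))⁻¹ = x := inv_eq_of_mul_eq_one_right (by
        rw [← pow_succ, show k + k + 1 = orderOf x by omega, pow_orderOf_eq_one])
      rw [h3, hx, ← mul_assoc, huu, one_mul]
    have hed : Commute e d := hxd.pow_left k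
    have hwu : Commute (e⁻¹ * m) u := by
      show e⁻¹ * m * u = u * (e⁻¹ * m)
      calc e⁻¹ * m * u = e⁻¹ * (m * u * m⁻¹) * m := by group
        _ = e⁻¹ * (e * u * e⁻¹) * m := by rw [hcu]
        _ = u * (e⁻¹ * m) := by group
    by_cases hw1 : e⁻¹ * m = 1
    · have hme : e = m := inv_mul_eq_one.1 hw1
      refine hm1 (c.inf_trivial hu huN hm ?_)
      have h1 := H65.conj_prod_zpow hu hv2 (k : ℤ)
      rw [zpow_natCast, zpow_neg, zpow_natCast, ← hx, ← he] at h1
      rw [← hme, h1]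
      exact le_normalizer (hme ▸ inv_mem hm)
    · have hwd : Commute (e⁻¹ * m) d := (hed.inv_left).mul_left hc.symm
      have hu1 := H65.ne_one_of_two hu
      have hdN' := P.commute_mem_normalizer hu1 (c.cent_out hu huN hwu) hw1 hwd.symm
      have h2 : d * d ∈ P.H u := by
        have h3 : u * (d * u⁻¹ * d⁻¹) ∈ P.H u :=
          mul_mem (P.mem u) ((mem_normalizer_iff.1 hdN' _).1 (inv_mem (P.mem u)))
        rw [show u * (d * u⁻¹ * d⁻¹) = u * d * u⁻¹ * d⁻¹ by group, hinv, ← mul_inv_rev] at h3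
        exact inv_mem_iff.1 h3
      have h4 : orderOf d ∣ 2 := orderOf_dvd_of_pow_eq_one (by
        rw [pow_two]; exact c.out_inter hu huN h2 (mul_mem hd hd))
      rcases (Nat.dvd_prime Nat.prime_two).1 h4 with h5 | h5
      · exact hd1 (orderOf_eq_one_iff.1 h5)
      · exact (Nat.not_even_iff_odd.2 hdodd) (by rw [h5]; exact even_two)

/-- The elements of the normaliser outside the component are conjugates of elements of the two-point
stabiliser. -/
theorem exists_conj (c : InCase P t) {u g : G} (hu : orderOf u = 2)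
    (huN : u ∉ normalizer (P.H t : Set G)) (hg : g ∈ normalizer (P.H t : Set G))
    (hgH : g ∉ P.H t) : ∃ k ∈ P.H t, ∃ d ∈ normalizer (P.H t : Set G),
      u⁻¹ * d * u ∈ normalizer (P.H t : Set G) ∧ d ≠ 1 ∧ g = k * d * k⁻¹ := by
  obtain ⟨d, h1, h2, -, h4⟩ := H67.exists_inverted_conj c.se hu huN c.ht
    (le_normalizer (P.mem t)) (H65.two_conj c.ht g)
    (le_normalizer ((mem_normalizer_iff.1 hg t).1 (P.mem t)))
  have hh : d⁻¹ * g ∈ P.H t := c.inner _ (by
    show d⁻¹ * g * t = t * (d⁻¹ * g)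
    calc d⁻¹ * g * t = d⁻¹ * (g * t * g⁻¹) * g := by group
      _ = d⁻¹ * (d * t * d⁻¹) * g := by rw [h4]
      _ = t * (d⁻¹ * g) := by group)
  have hd1 : d ≠ 1 := fun e => hgH (by simpa [e] using hh)
  have hgd : g * d⁻¹ ∈ P.H t := by
    have h := (mem_normalizer_iff.1 h1 _).1 hh
    rwa [show d * (d⁻¹ * g) * d⁻¹ = g * d⁻¹ by group] at h
  let f : P.H t → P.H t := fun k => ⟨k * d * (k : G)⁻¹ * d⁻¹, by
    rw [show (k : G) * d * (k : G)⁻¹ * d⁻¹ = k * (d * (k : G)⁻¹ * d⁻¹) by group]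
    exact mul_mem k.2 ((mem_normalizer_iff.1 h1 _).1 (inv_mem k.2))⟩
  have hf : Function.Injective f := by
    intro k l e
    have e' : (k : G) * d * (k : G)⁻¹ = l * d * (l : G)⁻¹ :=
      mul_right_cancel (congrArg Subtype.val e)
    refine Subtype.ext (inv_mul_eq_one.1 (c.fpf hu huN h1 h2 hd1 (mul_mem (inv_mem l.2) k.2) ?_)).symm
    show d * ((l : G)⁻¹ * k) = (l : G)⁻¹ * k * d
    calc d * ((l : G)⁻¹ * k) = (l : G)⁻¹ * (l * d * (l : G)⁻¹) * k := by group
      _ = (l : G)⁻¹ * (k * d * (k : G)⁻¹) * k := by rw [e']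
      _ = (l : G)⁻¹ * k * d := by group
  obtain ⟨k, hk⟩ := Finite.injective_iff_surjective.1 hf ⟨_, hgd⟩
  exact ⟨k, k.2, d, h1, h2, hd1, (mul_right_cancel (congrArg Subtype.val hk)).symm⟩

theorem cent (c : InCase P t) {m g : G} (hm : m ∈ P.H t) (hm1 : m ≠ 1) (hc : Commute g m) :
    g ∈ P.H t := by
  by_contra hgH
  obtain ⟨u, hu, huN⟩ := H67.se_exists_invol_not_mem c.se
  obtain ⟨k, hk, d, h1, h2, hd1, rfl⟩ := c.exists_conj hu huN
    (P.commute_mem_normalizer (H65.ne_one_of_two c.ht) hm hm1 hc) hgH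
  refine hm1 ?_
  have h3 := c.fpf hu huN h1 h2 hd1 (mul_mem (mul_mem (inv_mem hk) hm) hk) (by
    have h4 := congrArg (fun z => k⁻¹ * z * k) hc.eq
    show d * (k⁻¹ * m * k) = k⁻¹ * m * k * d
    simpa [mul_assoc] using h4)
  exact (conj_eq_one_iff (a := k⁻¹) (b := m)).1 (by rwa [inv_inv])

theorem pow_out (c : InCase P t) {g : G} (hg : g ∈ normalizer (P.H t : Set G))
    (hgH : g ∉ P.H t) {n : ℕ} (hn : g ^ n ∈ P.H t) : g ^ n = 1 := by
  obtain ⟨u, hu, huN⟩ := H67.se_exists_invol_not_mem c.se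
  obtain ⟨k, hk, d, h1, h2, hd1, rfl⟩ := c.exists_conj hu huN hg hgH
  rw [conj_pow] at hn ⊢
  have h3 : d ^ n ∈ P.H t := by
    have := mul_mem (mul_mem (inv_mem hk) hn) hk
    simpa [mul_assoc] using this
  have h4 : d ^ n = 1 := c.inf_trivial hu huN h3 (by
    rw [show u * d ^ n * u⁻¹ = (u * d * u⁻¹) ^ n from conj_pow.symm]
    refine pow_mem ?_ n
    rwa [H65.inv_of_two hu] at h2 ⊢)
  rw [h4, mul_one, mul_inv_cancel]

theorem even' (c : InCase P t) : H11.CTI.Even' (P.H t) := by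
  classical
  obtain ⟨u, hu, huN⟩ := H67.se_exists_invol_not_mem c.se
  have ht1 := H65.ne_one_of_two c.ht
  set N := normalizer (P.H t : Set G) with hN
  obtain ⟨s, hs, hs2, hst⟩ := c.exists_two
  obtain ⟨d, hd, hdu, -, hds⟩ := H67.exists_inverted_conj c.se hu huN c.ht
    (le_normalizer (P.mem t)) hs2 (le_normalizer hs)
  have hd1 : d ≠ 1 := fun e => hst (by rw [← hds, e]; simp)
  obtain ⟨p, hp, hpd⟩ := Nat.exists_prime_and_dvd (n := orderOf d)
    (fun e => hd1 (orderOf_eq_one_iff.1 e))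
  set d₀ := d ^ (orderOf d / p) with hd₀
  have hd₀o : orderOf d₀ = p := orderOf_pow_orderOf_div (orderOf_pos d).ne' hpd
  have hd₀p : d₀ ^ p = 1 := by rw [← hd₀o]; exact pow_orderOf_eq_one d₀
  have hd₀N : d₀ ∈ N := pow_mem hd _
  have hd₀H : d₀ ∉ P.H t := fun h => hp.ne_one (by
    have hu' : u⁻¹ * d₀ * u = (u⁻¹ * d * u) ^ (orderOf d / p) := by
      have h' := (conj_pow (a := u⁻¹) (b := d) (i := orderOf d / p)).symm
      simpa using h'
    rw [← hd₀o, c.inf_trivial hu huN h (by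
      rw [H65.inv_of_two hu] at hu' hdu ⊢
      rw [hu']; exact pow_mem hdu _), orderOf_one])
  -- the component is nilpotent
  have hnil : Group.IsNilpotent (P.H t) := by
    set M := (P.H t).subgroupOf N with hM
    haveI : M.Normal := Subgroup.normal_in_normalizer
    set f := QuotientGroup.mk' M with hf
    set X := (zpowers (f ⟨d₀, hd₀N⟩)).comap f with hX
    have hMX : M ≤ X := fun n hn => by
      rw [hX, mem_comap, show f n = 1 from (QuotientGroup.eq_one_iff n).2 hn]
      exact one_mem _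
    have hfo : orderOf (f ⟨d₀, hd₀N⟩) = p := orderOf_eq_prime (hp := ⟨hp⟩)
      (by rw [← map_pow]; exact (QuotientGroup.eq_one_iff _).2 (by
        rw [hM, mem_subgroupOf, Subgroup.coe_pow, hd₀p]
        exact one_mem _))
      (fun e => hd₀H (mem_subgroupOf.1 ((QuotientGroup.eq_one_iff _).1 e)))
    have hidx : (M.subgroupOf X).index = p := by
      have hker : M.subgroupOf X = (f.comp X.subtype).ker := by
        ext z
        simp [Subgroup.mem_subgroupOf, hf, QuotientGroup.eq_one_iff]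
      have hrange : (f.comp X.subtype).range = zpowers (f ⟨d₀, hd₀N⟩) := by
        rw [MonoidHom.range_comp, Subgroup.range_subtype, hX,
          Subgroup.map_comap_eq_self_of_surjective (QuotientGroup.mk'_surjective M)]
      rw [hker, Subgroup.index_ker, hrange, Nat.card_zpowers, hfo]
    have h := H56.kegel hp X (M.subgroupOf X) Subgroup.normal_subgroupOf hidx fun g hg => by
      have h1 : ((g : N) : G) ^ p ∈ P.H t := by
        have h2 : (g : N) ^ p ∈ M := by
          rw [← QuotientGroup.eq_one_iff]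
          show f ((g : N) ^ p) = 1
          obtain ⟨i, hi⟩ := mem_zpowers_iff.1 (mem_comap.1 g.2)
          rw [map_pow, ← hi, ← zpow_natCast, ← zpow_mul, mul_comm, zpow_mul, zpow_natCast, ← hfo,
            pow_orderOf_eq_one, one_zpow]
        exact mem_subgroupOf.1 h2
      have h3 := c.pow_out (g : N).2 (fun h => hg (mem_subgroupOf.2 (mem_subgroupOf.2 h))) h1
      exact Subtype.ext (Subtype.ext h3)
    exact Group.nilpotent_of_mulEquiv
      ((Subgroup.subgroupOfEquivOfLe hMX).trans (Subgroup.subgroupOfEquivOfLe le_normalizer))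
  obtain ⟨z, hz, hz1, -, hzc⟩ := exists_central_prime hnil Nat.prime_two
    (c.ht ▸ Subgroup.orderOf_dvd_natCard _ (P.mem t))
  have hcomp : H11.CTI.IsComp (P.H t) :=
    ⟨fun m hm hm1 g hg => c.cent hm hm1 (H11.CTI.mem_cent.1 hg), z, hz, hz1, fun m hm => hzc m hm⟩
  refine ⟨fun g hg ho => ?_, fun K hK h => exists_even_of_normal c.ns hK h, hcomp,
    ⟨t, P.mem t, c.ht⟩, c.se, ⟨s, hs, t, P.mem t, hs2, c.ht, hst⟩⟩
  by_contra hgH
  obtain ⟨k, hk, e, h1, h2, he1, rfl⟩ := c.exists_conj hu huN hg hgH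
  obtain ⟨r, hr, hre⟩ := Nat.exists_prime_and_dvd (n := orderOf e)
    (fun h => he1 (orderOf_eq_one_iff.1 h))
  haveI := Fact.mk hr
  have hoe : orderOf (k * e * k⁻¹) = orderOf e :=
    orderOf_injective (MulAut.conj k).toMonoidHom (MulAut.conj k).injective e
  set e₀ := e ^ (orderOf e / r) with he₀
  have he₀o : orderOf e₀ = r := orderOf_pow_orderOf_div (orderOf_pos e).ne' hre
  have he₀N : e₀ ∈ N := pow_mem h1 _
  have he₀u : u⁻¹ * e₀ * u ∈ N := by
    have h' := (conj_pow (a := u⁻¹) (b := e) (i := orderOf e / r)).symm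
    rw [inv_inv] at h'
    rw [h']
    exact pow_mem h2 _
  obtain ⟨v, hv, hv1, hvc⟩ := exists_fixed (k := 1) (by rw [pow_one]; exact he₀o) (P.H t)
    (fun a ha => (mem_normalizer_iff.1 he₀N a).1 ha) (hre.trans (hoe ▸ ho))
  exact hv1 (c.fpf hu huN he₀N he₀u (fun h => hr.ne_one (by rw [← he₀o, h, orderOf_one])) hv hvc)

end InCase

/-- The inner case gives `PSL₂(2ⁿ)` or a Suzuki group. -/
theorem inner_case {t : G} (c : InCase P t) :
    (∃ (F : Type) (_ : Field F) (_ : Fintype F), 4 ≤ Fintype.card F ∧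
        Nonempty (G ≃* Matrix.ProjectiveSpecialLinearGroup (Fin 2) F)) ∨
      Cfsg.Lie.IsoSuzuki G := by
  classical
  have h := c.even'
  by_cases hab : ∀ x ∈ P.H t, ∀ y ∈ P.H t, x * y = y * x
  · obtain ⟨n, hn, he⟩ := h.iso (h.exponent_two_of_comm hab)
    haveI : Fact (Nat.Prime 2) := ⟨Nat.prime_two⟩
    letI := Fintype.ofFinite (GaloisField 2 n)
    refine Or.inl ⟨GaloisField 2 n, inferInstance, inferInstance, ?_, he⟩
    rw [← Nat.card_eq_fintype_card, GaloisField.card 2 n (by omega)]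
    calc 4 = 2 ^ 2 := by norm_num
      _ ≤ 2 ^ n := Nat.pow_le_pow_right (by norm_num) hn
  · push Not at hab
    obtain ⟨u, v, -, -, hC, -⟩ := h.exists_ctx
    exact Or.inr (H11.SzUniq.ctx_isoSuzuki hC hab)

end Cfsg.Agent.H9.Partition
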