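import Cfsg.Agent.H9.Partition.Outer

/-!
The classification of the groups with a non-trivial partition.
-/

set_option autoImplicit false
set_option linter.unusedSectionVars false
set_option linter.style.haveILetI false

namespace Cfsg.Agent.H9.Partition

open Subgroup
open scoped commutatorElement

universe u

variable {G : Type u} [Group G] [Finite G]

theorem exists_abelian_of_solvable {N : Subgroup G} (hN : N.Normal) (hs : Group.IsSolvable ↥N)
    (hne : N ≠ ⊥) : ∃ A : Subgroup G, A.Normal ∧ A ≠ ⊥ ∧ ∀ a ∈ A, ∀ b ∈ A, a * b = b * a := by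
  classical
  haveI := hN
  haveI : Nontrivial N := (nontrivial_iff_ne_bot N).2 hne
  obtain ⟨n, hn⟩ := (Group.isSolvable_def N).1 hs
  have hex : ∃ n, derivedSeries N n = ⊥ := ⟨n, hn⟩
  have h0 : Nat.find hex ≠ 0 := fun h => by
    have := Nat.find_spec hex
    rw [h, derivedSeries_zero] at this
    exact top_ne_bot this
  obtain ⟨m, hm⟩ := Nat.exists_eq_succ_of_ne_zero h0
  refine ⟨(derivedSeries N m).map N.subtype, inferInstance, fun h => ?_, ?_⟩
  · rw [map_eq_bot_iff_of_injective _ N.subtype_injective] at h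
    exact Nat.find_min hex (m := m) (by omega) h
  · rintro _ ⟨a, ha, rfl⟩ _ ⟨b, hb, rfl⟩
    have h1 : ⁅a, b⁆ ∈ derivedSeries N (m + 1) := by
      rw [derivedSeries_succ]
      exact commutator_mem_commutator ha hb
    rw [show m + 1 = Nat.find hex from hm.symm, Nat.find_spec hex, mem_bot] at h1
    rw [← map_mul, commutatorElement_eq_one_iff_mul_comm.1 h1, map_mul]

/-- Classification of the finite groups with an invariant non-trivial partition. -/
theorem classification [Nontrivial G] (P : Part G) :
    Nonempty (G ≃* Equiv.Perm (Fin 4)) ∨ Split G ∨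
    (∃ (F : Type) (_ : Field F) (_ : Fintype F), 4 ≤ Fintype.card F ∧
        Nonempty (G ≃* Matrix.ProjectiveSpecialLinearGroup (Fin 2) F)) ∨
    (∃ (F : Type) (_ : Field F) (_ : Fintype F), 5 ≤ Fintype.card F ∧ Odd (Fintype.card F) ∧
        Nonempty (G ≃* (GL (Fin 2) F ⧸ Subgroup.center (GL (Fin 2) F)))) ∨
    Cfsg.Lie.IsoSuzuki G := by
  classical
  by_cases hc : ∃ x : G, x ≠ 1 ∧ (P.H x).Normal
  · obtain ⟨x, hx, hn⟩ := hc
    exact Or.inr (Or.inl (normal_case P (ncomp_of_normal P hx hn)))
  push Not at hc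
  by_cases hs : ∀ N : Subgroup G, N.Normal → Group.IsSolvable ↥N → N = ⊥
  · by_cases hi : ∃ t : G, orderOf t = 2 ∧ Inner P t
    · obtain ⟨t, ht, hin⟩ := hi
      rcases inner_case (P := P) ⟨hs, hc, ht, hin⟩ with h | h
      · exact Or.inr (Or.inr (Or.inl h))
      · exact Or.inr (Or.inr (Or.inr (Or.inr h)))
    · have hout : OutCase P := ⟨hs, fun t ht => by
        by_contra h
        push Not at h
        exact hi ⟨t, ht, h⟩⟩
      rcases outer_case hout with h | h
      · exact Or.inr (Or.inr (Or.inl h))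
      · exact Or.inr (Or.inr (Or.inr (Or.inl h)))
  · push Not at hs
    obtain ⟨N, hN, hsol, hne⟩ := hs
    obtain ⟨A, hA, hAne, hAc⟩ := exists_abelian_of_solvable hN hsol hne
    obtain ⟨p, c⟩ := exists_acase P hc hA hAne hAc
    rcases abelian_case P c with h | h
    · exact Or.inl h
    · exact Or.inr (Or.inl h)

end Cfsg.Agent.H9.Partition
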