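import Cfsg.Prelude.Def_Solvable
import Cfsg.Agent.H9.Partition.Basic
import Cfsg.Agent.H56.Kegel
import Cfsg.Agent.H65.BaerSuzuki
import Cfsg.Agent.H16.OddOrder
import Cfsg.Agent.H11.CTI.Solvable
import Cfsg.Agent.H1.Cores

/-!
Invariant partitions with a normal component.
-/

set_option autoImplicit false
set_option linter.unusedSectionVars false
set_option linter.style.haveILetI false

namespace Cfsg.Agent.H9.Partition

open Subgroup
open scoped IsMulCommutative

universe u

variable {G : Type u} [Group G] [Finite G]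

/-- A proper Hughes subgroup, or a Frobenius complement. -/
def Split (G : Type u) [Group G] : Prop :=
  (∃ p : ℕ, p.Prime ∧ Subgroup.closure {g : G | g ^ p ≠ 1} ≠ ⊤) ∨
    ∃ H : Subgroup G, Cfsg.IsFrobeniusComplement H

/-- A normal component. -/
structure NComp (P : Part G) (N : Subgroup G) : Prop where
  normal : N.Normal
  eq : ∀ v ∈ N, v ≠ 1 → P.H v = N
  ne_bot : N ≠ ⊥
  ne_top : N ≠ ⊤

theorem ncomp_of_normal (P : Part G) {x₀ : G} (h : x₀ ≠ 1) (hn : (P.H x₀).Normal) :
    NComp P (P.H x₀) where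
  normal := hn
  eq _ hv hv1 := P.eq h hv1 hv
  ne_bot e := h (Subgroup.mem_bot.1 (e ▸ P.mem x₀))
  ne_top := P.ne_top h

/-- An element with image of order divisible by `q` has a power of `q`-power order outside. -/
theorem exists_q_power {q : ℕ} (hq : q.Prime) (K : Subgroup G) [K.Normal] {g : G}
    (hd : q ∣ orderOf (QuotientGroup.mk' K g)) :
    ∃ k j : ℕ, g ^ k ∉ K ∧ orderOf (g ^ k) = q ^ j := by
  obtain ⟨j, m, hm, hn⟩ := Nat.exists_eq_pow_mul_and_not_dvd (orderOf_pos g).ne' q hq.ne_one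
  refine ⟨m, j, fun h => hm ?_, ?_⟩
  · refine hd.trans (orderOf_dvd_of_pow_eq_one ?_)
    rw [← map_pow]
    exact (QuotientGroup.eq_one_iff _).2 h
  · rw [orderOf_pow_of_dvd (fun e => hm (by simp [e])) ⟨q ^ j, by rw [hn, mul_comm]⟩, hn,
      Nat.mul_div_cancel _ (Nat.pos_of_ne_zero fun e => hm (by simp [e]))]

/-- Frattini argument for an element normalising a subgroup. -/
theorem exists_sylow_normalizing {q : ℕ} [Fact q.Prime] (M : Subgroup G) {g : G}
    (hg : ∀ m ∈ M, g * m * g⁻¹ ∈ M) (Q : Sylow q M) :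
    ∃ m ∈ M, ∀ a ∈ (Q : Subgroup M).map M.subtype,
      m * g * a * (m * g)⁻¹ ∈ (Q : Subgroup M).map M.subtype := by
  classical
  set Q0 : Subgroup G := (Q : Subgroup M).map M.subtype with hQ0
  set Qg : Subgroup G := Q0.map (MulAut.conj g).toMonoidHom with hQg
  have hle : Qg ≤ M := by
    rintro _ ⟨a, ha, rfl⟩
    obtain ⟨b, -, rfl⟩ := ha
    exact hg _ b.2
  have hcard : Nat.card (Qg.subgroupOf M) = q ^ (Nat.card M).factorization q := by
    rw [Nat.card_congr (subgroupOfEquivOfLe hle).toEquiv, hQg,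
      card_map_of_injective (MulAut.conj g).injective, hQ0,
      card_map_of_injective M.subtype_injective, Sylow.card_eq_multiplicity]
  obtain ⟨m, hm⟩ := MulAction.exists_smul_eq M (Sylow.ofCard (Qg.subgroupOf M) hcard) Q
  refine ⟨m, m.2, fun a ha => ?_⟩
  have hga : g * a * g⁻¹ ∈ Qg := ⟨a, ha, rfl⟩
  have h1 : m * ⟨g * a * g⁻¹, hle hga⟩ * m⁻¹ ∈ (Q : Subgroup M) := by
    rw [← hm, Sylow.coe_subgroup_smul, Subgroup.mem_pointwise_smul_iff_inv_smul_mem]
    simpa [MulAut.smul_def, mul_assoc, Subgroup.mem_subgroupOf] using hga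
  refine ⟨m * ⟨g * a * g⁻¹, hle hga⟩ * m⁻¹, h1, ?_⟩
  simp [mul_assoc]

/-- A finite nilpotent subgroup has central elements of each prime order dividing its order. -/
theorem exists_central_prime {N : Subgroup G} (hN : Group.IsNilpotent N) {r : ℕ} (hr : r.Prime)
    (hd : r ∣ Nat.card N) : ∃ v ∈ N, v ≠ 1 ∧ v ^ r = 1 ∧ ∀ n ∈ N, Commute n v := by
  classical
  haveI := Fact.mk hr
  obtain ⟨R⟩ : Nonempty (Sylow r N) := inferInstance
  have hRn : (R : Subgroup N).Normal :=
    (((Group.isNilpotent_of_finite_tfae (G := N)).out 0 3).1 hN : ∀ (s : ℕ) (_ : Fact s.Prime)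
      (S : Sylow s N), (S : Subgroup N).Normal) r inferInstance R
  obtain ⟨n, hn⟩ := hN.nilpotent
  have hex : ∃ k, ∃ z ∈ (R : Subgroup N), z ≠ 1 ∧ z ∈ Subgroup.upperCentralSeries N k := by
    obtain ⟨z, hz, hz1⟩ := (Subgroup.bot_or_exists_ne_one _).resolve_left (R.ne_bot_of_dvd_card hd)
    exact ⟨n, z, hz, hz1, by rw [hn]; exact mem_top z⟩
  obtain ⟨z, hzR, hz1, hzk⟩ := Nat.find_spec hex
  have hzc : ∀ y, Commute y z := by
    intro y
    rcases Nat.eq_zero_or_pos (Nat.find hex) with h0 | h0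
    · rw [h0, Subgroup.upperCentralSeries_zero] at hzk
      exact absurd (Subgroup.mem_bot.1 hzk) hz1
    obtain ⟨k, hk⟩ : ∃ k, Nat.find hex = k + 1 := ⟨Nat.find hex - 1, by omega⟩
    rw [hk, Subgroup.mem_upperCentralSeries_succ_iff] at hzk
    have h1 : z * y * z⁻¹ * y⁻¹ ∈ (R : Subgroup N) := by
      rw [show z * y * z⁻¹ * y⁻¹ = z * (y * z⁻¹ * y⁻¹) by group]
      exact mul_mem hzR (hRn.conj_mem _ (inv_mem hzR) y)
    by_contra hc
    refine Nat.find_min hex (m := k) (by omega) ⟨_, h1, fun e => hc ?_, hzk y⟩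
    exact (mul_inv_eq_iff_eq_mul.1 (mul_inv_eq_one.1 e)).symm
  obtain ⟨j, hj⟩ := IsPGroup.iff_orderOf.1 R.isPGroup' ⟨z, hzR⟩
  rw [orderOf_mk] at hj
  obtain ⟨i, rfl⟩ : ∃ i, j = i + 1 :=
    ⟨j - 1, by rcases Nat.eq_zero_or_pos j with rfl | h
               · exact absurd (orderOf_eq_one_iff.1 (by simpa using hj)) hz1
               · omega⟩
  refine ⟨((z ^ r ^ i : N) : G), SetLike.coe_mem _, fun e => ?_, ?_, fun m hm => ?_⟩
  · have h1 : z ^ r ^ i = 1 := Subtype.ext e
    have h2 := orderOf_dvd_of_pow_eq_one h1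
    rw [hj, Nat.pow_dvd_pow_iff_le_right hr.one_lt] at h2
    omega
  · rw [← Subgroup.coe_pow, ← pow_mul, ← pow_succ, ← hj, pow_orderOf_eq_one]
    rfl
  · exact congrArg Subtype.val ((hzc ⟨m, hm⟩).pow_right (r ^ i)).eq

/-- The central elements of a normal subgroup killed by `r`. -/
def torsionCenter (N : Subgroup G) (r : ℕ) : Subgroup G where
  carrier := {v | v ∈ N ∧ v ^ r = 1 ∧ ∀ n ∈ N, Commute n v}
  one_mem' := ⟨one_mem N, one_pow r, fun n _ => Commute.one_right n⟩
  mul_mem' := fun {a b} ha hb => ⟨mul_mem ha.1 hb.1, by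
    rw [(hb.2.2 a ha.1).mul_pow, ha.2.1, hb.2.1, one_mul],
    fun n hn => (ha.2.2 n hn).mul_right (hb.2.2 n hn)⟩
  inv_mem' := fun {a} ha => ⟨inv_mem ha.1, by rw [inv_pow, ha.2.1, inv_one],
    fun n hn => (ha.2.2 n hn).inv_right⟩

theorem torsionCenter_normal {N : Subgroup G} (hN : N.Normal) (r : ℕ) :
    (torsionCenter N r).Normal := by
  refine ⟨fun v hv g => ⟨hN.conj_mem v hv.1 g, ?_, fun n hn => ?_⟩⟩
  · rw [conj_pow, hv.2.1, mul_one, mul_inv_cancel]
  · have h := hv.2.2 (g⁻¹ * n * g⁻¹⁻¹) (hN.conj_mem n hn g⁻¹)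
    rw [inv_inv] at h
    show n * (g * v * g⁻¹) = g * v * g⁻¹ * n
    have h2 := congrArg (fun z => g * z * g⁻¹) h.eq
    simpa [mul_assoc] using h2

namespace NComp

variable {P : Part G} {N : Subgroup G}

theorem pow_eq_one (c : NComp P N) {g : G} (hg : g ∉ N) {k : ℕ} (h : g ^ k ∈ N) : g ^ k = 1 := by
  by_contra h1
  have e := c.eq _ h h1
  rw [P.eq_pow k h1] at e
  exact hg (e ▸ P.mem g)

theorem comm (c : NComp P N) {g v : G} (hg : g ∉ N) (hv : v ∈ N) (hv1 : v ≠ 1)
    (hc : Commute g v) : (orderOf g).Prime ∧ orderOf v = orderOf g := by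
  refine P.prime_of_commute (fun e => hg (by rw [e]; exact one_mem N)) hv1 hc fun h => hg ?_
  have e := P.eq (fun e => hg (by rw [e]; exact one_mem N)) hv1 h
  rw [c.eq v hv hv1] at e
  exact e.symm ▸ P.mem g

theorem inf_comp (c : NComp P N) {g a : G} (hg : g ∉ N) (ha : a ∈ P.H g) (haN : a ∈ N) :
    a = 1 := by
  by_contra h
  have e := P.eq (fun e => hg (by rw [e]; exact one_mem N)) h ha
  rw [c.eq a haN h] at e
  exact hg (e.symm ▸ P.mem g)

theorem order_eq (c : NComp P N) {r : ℕ} (hr : r.Prime) (hrN : r ∣ Nat.card N) {g : G}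
    (hg : g ∉ N) (hd : r ∣ orderOf g) : orderOf g = r := by
  haveI := Fact.mk hr
  have hgne : g ≠ 1 := fun e => hg (by rw [e]; exact one_mem N)
  have hpow : ∀ {s : ℕ}, s.Prime → s ∣ orderOf g →
      g ^ (orderOf g / s) ∉ N ∧ orderOf (g ^ (orderOf g / s)) = s := fun {s} hs hsd => by
    have ho := orderOf_pow_orderOf_div (orderOf_pos g).ne' hsd
    refine ⟨fun h => hs.ne_one ?_, ho⟩
    rw [← ho, c.pow_eq_one hg h, orderOf_one]
  obtain ⟨hg', ho'⟩ := hpow hr hd
  set g' := g ^ (orderOf g / r) with hgd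
  have hg'1 : g' ≠ 1 := fun e => hg' (by rw [e]; exact one_mem N)
  obtain ⟨v, hv, hv1, hcv⟩ := exists_fixed (k := 1) (by rw [pow_one]; exact ho') N
    (fun a ha => c.normal.conj_mem a ha g') hrN
  have hov : orderOf v = r := (c.comm hg' hv hv1 hcv).2.trans ho'
  have hall : ∀ {s : ℕ}, s.Prime → s ∣ orderOf g → s = r := fun {s} hs hsd => by
    obtain ⟨hy, hoy⟩ := hpow hs hsd
    have h1 : v * g ^ (orderOf g / s) * v⁻¹ * (g ^ (orderOf g / s))⁻¹ = 1 := by
      refine c.inf_comp hg (P.comm_mem hgne (pow_mem (P.mem g) _) hg'1 hcv.symm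
        (pow_mem (P.mem g) _)) ?_
      rw [show v * g ^ (orderOf g / s) * v⁻¹ * (g ^ (orderOf g / s))⁻¹ =
        v * (g ^ (orderOf g / s) * v⁻¹ * (g ^ (orderOf g / s))⁻¹) by group]
      exact mul_mem hv (c.normal.conj_mem _ (inv_mem hv) _)
    have h2 : Commute (g ^ (orderOf g / s)) v :=
      (mul_inv_eq_iff_eq_mul.1 (mul_inv_eq_one.1 h1)).symm
    rw [← hoy, ← (c.comm hy hv hv1 h2).2, hov]
  have hpp := Nat.eq_prime_pow_of_unique_prime_dvd (orderOf_pos g).ne' fun {d} hd' hdd => hall hd' hdd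
  obtain ⟨w, hw, hw1, hcw⟩ := exists_fixed hpp N (fun a ha => c.normal.conj_mem a ha g) hrN
  exact ((Nat.prime_dvd_prime_iff_eq hr (c.comm hg hw hw1 hcw).1).1 hd).symm

theorem dvd_order_of_image {M : Subgroup G} {g : G} {p : ℕ} (hp : p.Prime) (hg : g ∉ M)
    (hgp : g ^ p ∈ M) : p ∣ orderOf g := by
  by_contra h
  obtain ⟨m, hm⟩ := exists_pow_eq_self_of_coprime (hp.coprime_iff_not_dvd.2 h)
  exact hg (hm ▸ pow_mem hgp m)

/-- Elements outside a group over `N` with `p`-th power inside have order `p`. -/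
theorem pow_eq_one_of_image (c : NComp P N) {p : ℕ} (hp : p.Prime) (hpN : p ∣ Nat.card N)
    {M : Subgroup G} (hNM : N ≤ M) {g : G} (hg : g ∉ M) (hgp : g ^ p ∈ M) : g ^ p = 1 := by
  rw [← c.order_eq hp hpN (fun h => hg (hNM h)) (dvd_order_of_image hp hg hgp)]
  exact pow_orderOf_eq_one g

/-- The averaging argument inside a group with a normal component. -/
theorem centralizes (c : NComp P N) {A : Subgroup G} (hAn : A.Normal) (hAN : A ≤ N)
    (hAc : ∀ a ∈ A, ∀ b ∈ A, a * b = b * a) {r : ℕ} (hr : r.Prime) (S : Subgroup G) {x : G}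
    (hx : ∀ s ∈ S, x * s * x⁻¹ ∈ S) (hout : ∀ s ∈ S, s * x ∉ N ∧ (s * x) ^ r = 1)
    (hcop : ∀ v ∈ A, v ^ Nat.card S = 1 → v = 1) : ∀ s ∈ S, ∀ v ∈ A, Commute s v := by
  classical
  haveI := hAn
  haveI := c.normal
  haveI : IsMulCommutative A := ⟨⟨fun a b => Subtype.ext (hAc a a.2 b b.2)⟩⟩
  intro s hs v hv
  have key := H56.averaged_trivial (MulAut.conjNormal (H := A)) S hx hr
    (fun s hs => (hout s hs).2) ?_
    (fun v hv => Subtype.ext (hcop v v.2 (by
      have := congrArg Subtype.val hv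
      simpa using this))) s hs ⟨v, hv⟩
  · have h1 := congrArg Subtype.val key
    rw [MulAut.conjNormal_apply] at h1
    exact mul_inv_eq_iff_eq_mul.1 h1
  intro s hs w
  obtain ⟨hgN, hgp⟩ := hout s hs
  generalize s * x = g at hgN hgp
  have key : ∀ n : ℕ, ((w : G) * g) ^ n =
      ((∏ i ∈ Finset.range n, (MulAut.conjNormal (g ^ i) : MulAut A) w : A) : G) * g ^ n := by
    intro n
    induction n with
    | zero => simp
    | succ n ih =>
      rw [pow_succ, ih, Finset.prod_range_succ, Subgroup.coe_mul, MulAut.conjNormal_apply,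
        pow_succ]
      simp [mul_assoc]
  have hwg : (w : G) * g ∉ N := fun h => hgN (by
    have := mul_mem (inv_mem (hAN w.2)) h
    rwa [inv_mul_cancel_left] at this)
  have hmem : ((w : G) * g) ^ r ∈ N := by
    rw [← QuotientGroup.eq_one_iff, QuotientGroup.mk_pow, QuotientGroup.mk_mul,
      (QuotientGroup.eq_one_iff (w : G)).2 (hAN w.2), one_mul, ← QuotientGroup.mk_pow, hgp]
    rfl
  have h := key r
  rw [c.pow_eq_one hwg hmem, hgp, mul_one] at h
  exact Subtype.ext h.symm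

/-- The key contradiction: a section of order prime to `p` normalised by an element of order `p`. -/
theorem no_section (c : NComp P N) {p : ℕ} (hp : p.Prime) (hpN : p ∣ Nat.card N)
    (hV : ∃ v ∈ N, v ≠ 1 ∧ v ^ p = 1 ∧ ∀ n ∈ N, Commute n v) {M : Subgroup G} (hNM : N ≤ M)
    {g : G} (hnorm : ∀ m ∈ M, g * m * g⁻¹ ∈ M) (hg : g ∉ M) (hgp : g ^ p ∈ M) {q j : ℕ}
    (hq : q.Prime) (hqp : q ≠ p) {b : G} (hbM : b ∈ M) (hb : b ∉ N) (hob : orderOf b = q ^ j) :
    False := by
  classical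
  haveI := Fact.mk hq
  obtain ⟨Q, hQ⟩ := (IsPGroup.of_card (n := j) (p := q)
    (G := zpowers (⟨b, hbM⟩ : M)) (by rw [Nat.card_zpowers, orderOf_mk, hob])).exists_le_sylow
  obtain ⟨m, hm, hnQ⟩ := exists_sylow_normalizing M hnorm Q
  set Q0 : Subgroup G := (Q : Subgroup M).map M.subtype with hQ0
  have hbQ : b ∈ Q0 := ⟨⟨b, hbM⟩, hQ (mem_zpowers _), rfl⟩
  have hQM : Q0 ≤ M := map_subtype_le _
  have hnorm' : ∀ z ∈ M, m * g * z * (m * g)⁻¹ ∈ M := fun z hz => by
    rw [show m * g * z * (m * g)⁻¹ = m * (g * z * g⁻¹) * m⁻¹ by group]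
    exact mul_mem (mul_mem hm (hnorm z hz)) (inv_mem hm)
  have hgp' : ∀ z ∈ M, z * g ∉ M ∧ (z * g) ^ p ∈ M := fun z hz => by
    refine ⟨fun h => hg (by simpa using mul_mem (inv_mem hz) h), ?_⟩
    simpa using mul_mem (H56.inv_mul_pow_cancel_mem M hnorm hz p) hgp
  obtain ⟨hmg, hmgp⟩ := hgp' m hm
  have hcard : ∃ k, Nat.card Q0 = q ^ k := by
    rw [hQ0, card_map_of_injective M.subtype_injective]
    exact IsPGroup.iff_card.1 Q.isPGroup'
  have hcent := c.centralizes (torsionCenter_normal c.normal p) (fun v hv => hv.1)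
    (fun a ha b hb => (hb.2.2 a ha.1).eq) hp Q0 hnQ
    (fun s hs => by
      obtain ⟨h1, h2⟩ := hgp' (s * m) (mul_mem (hQM hs) hm)
      rw [mul_assoc] at h1 h2
      exact ⟨fun h => h1 (hNM h), c.pow_eq_one_of_image hp hpN hNM h1 h2⟩)
    (fun v hv he => by
      obtain ⟨k, hk⟩ := hcard
      rw [hk] at he
      exact orderOf_eq_one_iff.1 (Nat.eq_one_of_dvd_coprimes
        (((Nat.coprime_primes hp hq).2 hqp.symm).pow_right k)
        (orderOf_dvd_of_pow_eq_one hv.2.1) (orderOf_dvd_of_pow_eq_one he)))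
  obtain ⟨v, hv, hv1, hvp, hvc⟩ := hV
  obtain ⟨hbp, hov⟩ := c.comm hb hv hv1 (hcent b hbQ v ⟨hv, hvp, hvc⟩)
  rw [orderOf_eq_prime (hp := ⟨hp⟩) hvp hv1, hob] at hov
  exact hqp ((Nat.prime_dvd_prime_iff_eq hq hp).1 (hov ▸ dvd_pow_self q (fun e => by
    rw [hob, e, pow_zero] at hbp; exact Nat.not_prime_one hbp)))

variable [hn : N.Normal]

/-- The preimage of `O_p(G/N)`. -/
noncomputable def top_p (N : Subgroup G) [N.Normal] (p : ℕ) : Subgroup G :=
  (Cfsg.pCore p (G ⧸ N)).comap (QuotientGroup.mk' N)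

theorem top_p_normal (p : ℕ) : (top_p N p).Normal :=
  (H1.pCore_normal' p (G ⧸ N)).comap _

theorem le_top_p (p : ℕ) : N ≤ top_p N p := fun n hn => by
  show QuotientGroup.mk' N n ∈ Cfsg.pCore p (G ⧸ N)
  rw [show QuotientGroup.mk' N n = 1 from (QuotientGroup.eq_one_iff n).2 hn]
  exact one_mem _

theorem top_p_max {p : ℕ} {L : Subgroup G} (hL : L.Normal)
    (h : ∀ g ∈ L, ∃ a : ℕ, g ^ p ^ a ∈ N) : L ≤ top_p N p := by
  intro g hg
  haveI := hL.map (QuotientGroup.mk' N) (QuotientGroup.mk'_surjective N)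
  refine H1.le_pCore (N := L.map (QuotientGroup.mk' N)) ?_ (mem_map_of_mem _ hg)
  rintro ⟨_, y, hy, rfl⟩
  obtain ⟨a, ha⟩ := h y hy
  exact ⟨a, Subtype.ext (by
    show (QuotientGroup.mk' N y) ^ p ^ a = 1
    rw [← map_pow]
    exact (QuotientGroup.eq_one_iff _).2 ha)⟩

theorem top_p_pow {p : ℕ} {g : G} (hg : g ∈ top_p N p) : ∃ a : ℕ, g ^ p ^ a ∈ N := by
  obtain ⟨a, ha⟩ := H1.isPGroup_pCore p (G ⧸ N) ⟨_, hg⟩
  refine ⟨a, ?_⟩
  rw [← QuotientGroup.eq_one_iff, QuotientGroup.mk_pow]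
  simpa using congrArg Subtype.val ha

theorem top_p_order (c : NComp P N) {p : ℕ} (hp : p.Prime) (hpN : p ∣ Nat.card N) {g : G}
    (hg : g ∈ top_p N p) (hgN : g ∉ N) : orderOf g = p := by
  refine c.order_eq hp hpN hgN ?_
  obtain ⟨a, ha⟩ := top_p_pow hg
  obtain ⟨b, -, hb⟩ := (Nat.dvd_prime_pow hp).1
    (orderOf_dvd_of_pow_eq_one (c.pow_eq_one hgN ha))
  rcases Nat.eq_zero_or_pos b with rfl | hb0
  · have h1 : g = 1 := orderOf_eq_one_iff.1 (by simpa using hb)
    exact absurd (by rw [h1]; exact one_mem N) hgN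
  · rw [hb]; exact dvd_pow_self p hb0.ne'

/-- The elements of order `p` outside the component lie in the preimage of `O_p(G/N)`. -/
theorem mem_top_p (c : NComp P N) {p : ℕ} (hp : p.Prime) (hpN : p ∣ Nat.card N)
    (hV : ∃ v ∈ N, v ≠ 1 ∧ v ^ p = 1 ∧ ∀ n ∈ N, Commute n v) {x : G} (hx : x ∉ N)
    (hd : p ∣ orderOf x) : x ∈ top_p N p := by
  classical
  haveI := Fact.mk hp
  have hxo := c.order_eq hp hpN hx hd
  have hxp : x ^ p = 1 := by rw [← hxo]; exact pow_orderOf_eq_one x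
  by_contra hxK
  by_cases hp2 : p = 2
  · subst hp2
    have ht : orderOf (QuotientGroup.mk' N x) = 2 := orderOf_eq_prime
      (by rw [← map_pow, hxp, map_one])
      (fun e => hx ((QuotientGroup.eq_one_iff x).1 e))
    obtain ⟨h, hh1, hodd, hinv⟩ := H65.exists_odd_inverted ht hxK
    obtain ⟨h, rfl⟩ := QuotientGroup.mk'_surjective N h
    set M := (zpowers (QuotientGroup.mk' N h)).comap (QuotientGroup.mk' N) with hM
    obtain ⟨q, hq, hqd⟩ := Nat.exists_prime_and_dvd
      (n := orderOf (QuotientGroup.mk' N h)) (fun e => hh1 (orderOf_eq_one_iff.1 e))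
    have hq2 : q ≠ 2 := fun e => by
      subst e
      exact (Nat.not_even_iff_odd.2 hodd) (even_iff_two_dvd.2 hqd)
    obtain ⟨k, j, hk, hkj⟩ := exists_q_power hq N hqd
    refine c.no_section hp hpN hV (M := M) (g := x) ?_ ?_ ?_ ?_ hq hq2 (b := h ^ k) ?_ hk hkj
    · intro n hn'
      rw [hM, mem_comap, show QuotientGroup.mk' N n = 1 from (QuotientGroup.eq_one_iff n).2 hn']
      exact one_mem _
    · intro m hm
      rw [hM, mem_comap] at hm ⊢
      obtain ⟨i, hi⟩ := mem_zpowers_iff.1 hm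
      rw [map_mul, map_mul, map_inv, ← hi, ← conj_zpow, hinv]
      exact zpow_mem (inv_mem (mem_zpowers _)) i
    · intro hxM
      have h1 := orderOf_dvd_of_mem_zpowers (mem_comap.1 hxM)
      rw [ht] at h1
      exact (Nat.not_even_iff_odd.2 hodd) (even_iff_two_dvd.2 h1)
    · rw [hxp]; exact one_mem M
    · exact pow_mem (mem_comap.2 (mem_zpowers _)) k
  have hpodd : Odd p := hp.odd_of_ne_two hp2
  haveI hKn : (top_p N p).Normal := top_p_normal p
  set f := QuotientGroup.mk' (top_p N p) with hf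
  have hf1 : ∀ g, f g = 1 ↔ g ∈ top_p N p := fun g => QuotientGroup.eq_one_iff g
  have hfx : orderOf (f x) = p := orderOf_eq_prime
    (by rw [← map_pow, hxp, map_one]) (fun e => hxK ((hf1 x).1 e))
  -- a section of order prime to `p` normalised by `x` gives a contradiction
  have hsec : ∀ (A : Subgroup (G ⧸ top_p N p)), (∀ a ∈ A, f x * a * (f x)⁻¹ ∈ A) → f x ∉ A →
      ∀ (q : ℕ), q.Prime → q ≠ p → ∀ a : G, f a ∈ A → q ∣ orderOf (f a) → False := by
    intro A hA hxA q hq hqp a ha hqa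
    obtain ⟨k, j, hk, hkj⟩ := exists_q_power hq (top_p N p) hqa
    refine c.no_section hp hpN hV (M := A.comap f) (g := x) ?_ ?_ (fun h => hxA h) ?_ hq hqp
      (b := a ^ k) ?_ (fun h => hk (le_top_p p h)) hkj
    · intro n hn'
      rw [mem_comap, (hf1 n).2 (le_top_p p hn')]
      exact one_mem _
    · intro m hm
      rw [mem_comap, map_mul, map_mul, map_inv]
      exact hA _ hm
    · rw [hxp]; exact one_mem _
    · exact pow_mem (mem_comap.2 ha) k
  rcases Nat.even_or_odd (Nat.card (G ⧸ top_p N p)) with heven | hodd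
  · obtain ⟨t, ht⟩ := exists_prime_orderOf_dvd_card' (G := G ⧸ top_p N p) 2 heven.two_dvd
    obtain ⟨t, rfl⟩ := QuotientGroup.mk'_surjective _ t
    obtain ⟨k, j, hk, hkj⟩ := exists_q_power Nat.prime_two (top_p N p) (g := t) (by rw [ht])
    have hj : j ≠ 0 := fun e => hk (by
      rw [orderOf_eq_one_iff.1 (by simpa [e] using hkj : orderOf (t ^ k) = 1)]; exact one_mem _)
    set i := (t ^ k) ^ (orderOf (t ^ k) / 2) with hi
    have hio : orderOf i = 2 := orderOf_pow_orderOf_div (orderOf_pos _).ne'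
      (by rw [hkj]; exact dvd_pow_self 2 hj)
    have hi1 : i ≠ 1 := fun e => by rw [e, orderOf_one] at hio; omega
    have hiN : i ∉ N := fun h => hi1 (c.pow_eq_one (fun h' => hk (le_top_p p h')) h)
    have hiK : i ∉ top_p N p := fun h => hp2 (by rw [← c.top_p_order hp hpN h hiN, hio])
    have hii : i * i = 1 := by rw [← pow_two, ← hio]; exact pow_orderOf_eq_one i
    have hinv : ∀ v ∈ torsionCenter N p, i * v * i⁻¹ = v⁻¹ := by
      intro v hv
      have hTn := torsionCenter_normal c.normal p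
      have hivi := hTn.conj_mem v hv i
      by_contra hne
      have hw : v * (i * v * i⁻¹) ≠ 1 := fun e => hne (eq_inv_of_mul_eq_one_right e)
      have hcw : Commute i (v * (i * v * i⁻¹)) := by
        have h1 : v * (i * v * i⁻¹) = (i * v * i⁻¹) * v := (hivi.2.2 v hv.1).eq
        have hii' : i⁻¹ = i := inv_eq_of_mul_eq_one_right hii
        show i * (v * (i * v * i⁻¹)) = v * (i * v * i⁻¹) * i
        nth_rewrite 2 [h1]
        calc i * (v * (i * v * i⁻¹)) = i * v * i * (v * i) := by simp [hii', mul_assoc]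
          _ = _ := by simp [hii', mul_assoc]
      have h2 := (c.comm hiN (mul_mem hv.1 hivi.1) hw hcw).2
      have h3 : (v * (i * v * i⁻¹)) ^ p = 1 := (mul_mem hv hivi).2.1
      rw [hio, orderOf_eq_prime h3 hw] at h2
      exact hp2 h2
    have hC : ∀ g, g * i * g⁻¹ * i⁻¹ ∈ top_p N p := by
      intro g
      have hmem : g * i * g⁻¹ * i⁻¹ ∈ centralizer (torsionCenter N p : Set G) := by
        rw [mem_centralizer_iff]
        intro v hv
        have h1 := hinv _ ((torsionCenter_normal c.normal p).conj_mem v hv g⁻¹)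
        have h2 : g * i * g⁻¹ * v * (g * i * g⁻¹)⁻¹ = v⁻¹ := by
          calc _ = g * (i * (g⁻¹ * v * g⁻¹⁻¹) * i⁻¹) * g⁻¹ := by simp [mul_assoc]
            _ = _ := by rw [h1]; simp [mul_assoc]
        have hiv : i⁻¹ * v * i = v⁻¹ := by
          have := hinv v hv
          rwa [inv_eq_of_mul_eq_one_right hii] at this ⊢
        have h3 : g * i * g⁻¹ * i⁻¹ * v * (g * i * g⁻¹ * i⁻¹)⁻¹ = v := by
          calc _ = g * i * g⁻¹ * (i⁻¹ * v * i) * (g * i * g⁻¹)⁻¹ := by simp [mul_assoc]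
            _ = (g * i * g⁻¹ * v * (g * i * g⁻¹)⁻¹)⁻¹ := by rw [hiv]; simp [mul_assoc]
            _ = _ := by rw [h2, inv_inv]
        exact (mul_inv_eq_iff_eq_mul.1 h3).symm
      haveI := torsionCenter_normal c.normal p
      refine top_p_max (L := centralizer (torsionCenter N p : Set G)) inferInstance ?_ hmem
      intro z hz
      by_cases hzN : z ∈ N
      · exact ⟨0, by simpa using hzN⟩
      refine ⟨1, ?_⟩
      obtain ⟨v, hv, hv1, hvp, hvc⟩ := hV
      have h4 := (c.comm hzN hv hv1 (mem_centralizer_iff.1 hz v ⟨hv, hvp, hvc⟩).symm).2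
      rw [orderOf_eq_prime hvp hv1] at h4
      rw [pow_one, h4, pow_orderOf_eq_one]
      exact one_mem N
    have hcen : ∀ a, a * f i * a⁻¹ = f i := by
      intro a
      obtain ⟨g, rfl⟩ := QuotientGroup.mk'_surjective _ a
      have h1 := (hf1 _).2 (hC g)
      simp only [map_mul, map_inv] at h1
      exact mul_inv_eq_one.1 h1
    refine hsec (zpowers (f i)) ?_ ?_ 2 Nat.prime_two (Ne.symm hp2) i (mem_zpowers _) ?_
    · intro a ha
      obtain ⟨n, rfl⟩ := mem_zpowers_iff.1 ha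
      rw [← conj_zpow, hcen]
      exact zpow_mem (mem_zpowers _) n
    · intro h
      have h1 := (orderOf_dvd_of_mem_zpowers h).trans (orderOf_map_dvd f i)
      rw [hfx, hio] at h1
      exact hp2 ((Nat.prime_dvd_prime_iff_eq hp Nat.prime_two).1 h1)
    · rw [orderOf_eq_prime (p := 2) (by rw [← map_pow, pow_two, hii, map_one])
        (fun e => hiK ((hf1 i).1 e))]
  haveI : Group.IsSolvable (G ⧸ top_p N p) := H16.FT.oddOrder hodd
  haveI : Nontrivial (G ⧸ top_p N p) :=
    ⟨⟨f x, 1, fun e => hxK ((hf1 x).1 e)⟩⟩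
  obtain ⟨A, hA, hAne, hAc⟩ := H11.CTI.exists_abelian_normal (G := G ⧸ top_p N p)
  obtain ⟨a, ha, ha1⟩ := (A.bot_or_exists_ne_one).resolve_left hAne
  obtain ⟨q, hq, hqd⟩ := Nat.exists_prime_and_dvd (n := orderOf a)
    (fun e => ha1 (orderOf_eq_one_iff.1 e))
  haveI := Fact.mk hq
  set a' := a ^ (orderOf a / q) with ha'
  have ha'o : orderOf a' = q := orderOf_pow_orderOf_div (orderOf_pos a).ne' hqd
  let Aq : Subgroup (G ⧸ top_p N p) :=
    { carrier := {z | z ∈ A ∧ z ^ q = 1}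
      one_mem' := ⟨one_mem A, one_pow q⟩
      mul_mem' := fun {u v} hu hv => ⟨mul_mem hu.1 hv.1, by
        rw [(show Commute u v from hAc u hu.1 v hv.1).mul_pow, hu.2, hv.2, one_mul]⟩
      inv_mem' := fun {u} hu => ⟨inv_mem hu.1, by rw [inv_pow, hu.2, inv_one]⟩ }
  have hAqn : Aq.Normal := ⟨fun u hu g => ⟨hA.conj_mem u hu.1 g, by
    rw [conj_pow, hu.2, mul_one, mul_inv_cancel]⟩⟩
  have ha'Aq : a' ∈ Aq := ⟨pow_mem ha _, by rw [← ha'o]; exact pow_orderOf_eq_one a'⟩
  obtain ⟨g, hg⟩ := QuotientGroup.mk'_surjective _ a'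
  have hqp : q ≠ p := by
    rintro rfl
    have hle : Aq.comap f ≤ top_p N q := top_p_max (hAqn.comap f) fun z hz => by
      have h1 : z ^ q ∈ top_p N q := (hf1 _).1 (by rw [map_pow]; exact hz.2)
      obtain ⟨b, hb⟩ := top_p_pow h1
      exact ⟨b + 1, by rwa [pow_succ', pow_mul]⟩
    have h1 := (hf1 g).2 (hle (mem_comap.2 (by rw [hg]; exact ha'Aq)))
    rw [hg] at h1
    rw [h1, orderOf_one] at ha'o
    exact hq.ne_one ha'o.symm
  refine hsec Aq (fun u hu => hAqn.conj_mem u hu _) ?_ q hq hqp g (by rw [hg]; exact ha'Aq)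
    (by rw [hg, ha'o])
  intro h
  exact hqp.symm ((Nat.prime_dvd_prime_iff_eq hp hq).1 (hfx ▸ orderOf_dvd_of_pow_eq_one h.2))

end NComp

/-- A partition with a normal component: a proper Hughes subgroup or a Frobenius group. -/
theorem normal_case (P : Part G) {N : Subgroup G} (c : NComp P N) : Split G := by
  classical
  haveI := c.normal
  by_cases hfpf : ∀ g : G, g ∉ N → ∀ v ∈ N, Commute g v → v = 1
  · exact Or.inr (frobenius_of_fpf N c.ne_bot c.ne_top hfpf)
  push Not at hfpf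
  obtain ⟨x, hx, v₀, hv₀, hcx, hv₀1⟩ := hfpf
  obtain ⟨hp, hov₀⟩ := c.comm hx hv₀ hv₀1 hcx
  obtain ⟨p, hxo⟩ : ∃ p, orderOf x = p := ⟨_, rfl⟩
  rw [hxo] at hp hov₀
  haveI := Fact.mk hp
  have hpN : p ∣ Nat.card N := hov₀ ▸ Subgroup.orderOf_dvd_natCard N hv₀
  have hxp : x ^ p = 1 := by rw [← hxo]; exact pow_orderOf_eq_one x
  by_cases hall : ∀ g : G, g ∉ N → g ^ p = 1
  · refine Or.inl ⟨p, hp, fun e => c.ne_top (top_le_iff.1 (e ▸ ?_))⟩
    refine (Subgroup.closure_le N).2 fun g hg => ?_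
    by_contra h
    exact hg (hall g h)
  push Not at hall
  obtain ⟨y₀, hy₀, hy₀p⟩ := hall
  have hy₀1 : y₀ ≠ 1 := fun e => hy₀ (by rw [e]; exact one_mem N)
  obtain ⟨q, hq, hqd⟩ := Nat.exists_prime_and_dvd (n := orderOf y₀)
    (fun e => hy₀1 (orderOf_eq_one_iff.1 e))
  have hqp : q ≠ p := by
    rintro rfl
    exact hy₀p (by rw [← c.order_eq hq hpN hy₀ hqd]; exact pow_orderOf_eq_one y₀)
  set y := y₀ ^ (orderOf y₀ / q) with hy
  have hyo : orderOf y = q := orderOf_pow_orderOf_div (orderOf_pos y₀).ne' hqd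
  have hyN : y ∉ N := fun h => hq.ne_one (hyo.symm.trans (orderOf_eq_one_iff.2 (c.pow_eq_one hy₀ h)))
  -- the component is nilpotent
  have hnil : Group.IsNilpotent N := by
    set X := (zpowers (QuotientGroup.mk' N x)).comap (QuotientGroup.mk' N) with hX
    have hNX : N ≤ X := fun n hn => by
      rw [hX, mem_comap, show QuotientGroup.mk' N n = 1 from (QuotientGroup.eq_one_iff n).2 hn]
      exact one_mem _
    have hxo' : orderOf (QuotientGroup.mk' N x) = p := orderOf_eq_prime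
      (by rw [← map_pow, hxp, map_one]) (fun e => hx ((QuotientGroup.eq_one_iff x).1 e))
    have hidx : (N.subgroupOf X).index = p := by
      have hker : N.subgroupOf X = ((QuotientGroup.mk' N).comp X.subtype).ker := by
        ext z
        simp [Subgroup.mem_subgroupOf, QuotientGroup.eq_one_iff]
      have hrange : ((QuotientGroup.mk' N).comp X.subtype).range =
          zpowers (QuotientGroup.mk' N x) := by
        rw [MonoidHom.range_comp, Subgroup.range_subtype, hX,
          Subgroup.map_comap_eq_self_of_surjective (QuotientGroup.mk'_surjective N)]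
      rw [hker, Subgroup.index_ker, hrange, Nat.card_zpowers, hxo']
    have h := H56.kegel hp X (N.subgroupOf X) Subgroup.normal_subgroupOf hidx fun g hg => by
      have h1 : (g : G) ^ p ∈ N := by
        rw [← QuotientGroup.eq_one_iff, QuotientGroup.mk_pow]
        obtain ⟨i, hi⟩ := mem_zpowers_iff.1 (mem_comap.1 g.2)
        rw [show ((g : G) : G ⧸ N) = QuotientGroup.mk' N (g : G) from rfl, ← hi, ← zpow_natCast,
          ← zpow_mul, mul_comm, zpow_mul, zpow_natCast, ← hxo', pow_orderOf_eq_one, one_zpow]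
      exact Subtype.ext (c.pow_eq_one (fun h => hg h) h1)
    exact Group.nilpotent_of_mulEquiv (Subgroup.subgroupOfEquivOfLe hNX)
  have hV := exists_central_prime hnil hp hpN
  set K := NComp.top_p N p with hK
  haveI hKn : K.Normal := NComp.top_p_normal p
  have hmem : ∀ g, g ∉ N → p ∣ orderOf g → g ∈ K := fun g hg hd => c.mem_top_p hp hpN hV hg hd
  have hxK : x ∈ K := hmem x hx (by rw [hxo])
  have hnot : ∀ (g : G) (r : ℕ), orderOf g = r → r.Prime → r ≠ p → g ∉ N → g ∉ K :=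
    fun g r hgo _ hrp hgN hgK => hrp (by rw [← hgo, c.top_p_order hp hpN hgK hgN])
  have hyK : y ∉ K := hnot y q hyo hq hqp hyN
  -- the component is a `p`-group
  have hNp : ∀ r : ℕ, r.Prime → r ∣ Nat.card N → r = p := by
    intro r hr hrN
    by_contra hrp
    obtain ⟨w, hw, hw1, hwr, hwc⟩ := exists_central_prime hnil hr hrN
    obtain ⟨P0, hP0⟩ := (IsPGroup.of_card (n := 1) (p := p)
      (G := zpowers (⟨x, hxK⟩ : K))
      (by rw [Nat.card_zpowers, orderOf_mk, hxo, pow_one])).exists_le_sylow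
    obtain ⟨m, hm, hnP⟩ := exists_sylow_normalizing K (fun z hz => hKn.conj_mem z hz y) P0
    have hmyK : m * y ∉ K := fun h => hyK (by simpa using mul_mem (inv_mem hm) h)
    have hqg : q ∣ orderOf (m * y) := by
      have h1 : orderOf (QuotientGroup.mk' K (m * y)) = q := by
        rw [map_mul, show QuotientGroup.mk' K m = 1 from (QuotientGroup.eq_one_iff m).2 hm, one_mul]
        exact orderOf_eq_prime (hp := ⟨hq⟩)
          (by rw [← map_pow, ← hyo, pow_orderOf_eq_one, map_one])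
          (fun e => hyK ((QuotientGroup.eq_one_iff y).1 e))
      exact h1 ▸ orderOf_map_dvd _ _
    have hmyN : m * y ∉ N := fun h => hmyK (NComp.le_top_p p h)
    set g := (m * y) ^ (orderOf (m * y) / q) with hg
    have hgo : orderOf g = q := orderOf_pow_orderOf_div (orderOf_pos _).ne' hqg
    have hgN : g ∉ N := fun h => hq.ne_one (hgo.symm.trans (orderOf_eq_one_iff.2 (c.pow_eq_one hmyN h)))
    have hgK := hnot g q hgo hq hqp hgN
    set P' : Subgroup G := (P0 : Subgroup K).map K.subtype with hP'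
    have hnorm : ∀ s ∈ P', g * s * g⁻¹ ∈ P' := by
      intro s hs
      have : ∀ n : ℕ, (m * y) ^ n * s * ((m * y) ^ n)⁻¹ ∈ P' := by
        intro n
        induction n with
        | zero => simpa using hs
        | succ n ih =>
          have := hnP _ ih
          simpa [pow_succ', mul_assoc] using this
      exact this _
    have hsK : ∀ s ∈ P', s * g ∉ K := fun s hs h =>
      hgK (by simpa using mul_mem (inv_mem (map_subtype_le _ hs)) h)
    have hout : ∀ s ∈ P', s * g ∉ N ∧ (s * g) ^ q = 1 := by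
      intro s hs
      have h1 : (s * g) ^ q ∈ K := by
        have h2 := H56.inv_mul_pow_cancel_mem P' hnorm hs q
        rw [show g ^ q = 1 by rw [← hgo]; exact pow_orderOf_eq_one g, inv_one, mul_one] at h2
        exact map_subtype_le _ h2
      have h3 : s * g ∉ N := fun h => hsK s hs (NComp.le_top_p p h)
      refine ⟨h3, ?_⟩
      by_cases h4 : (s * g) ^ q ∈ N
      · exact c.pow_eq_one h3 h4
      · refine absurd (hmem _ h3 ?_) (hsK s hs)
        rw [← c.top_p_order hp hpN h1 h4]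
        exact orderOf_pow_dvd q
    have hcard : ∃ k, Nat.card P' = p ^ k := by
      rw [hP', card_map_of_injective K.subtype_injective]
      exact IsPGroup.iff_card.1 P0.isPGroup'
    have hc := c.centralizes (torsionCenter_normal c.normal r) (fun v hv => hv.1)
      (fun a ha b hb => (hb.2.2 a ha.1).eq) hq P' hnorm hout
      (fun v hv he => by
        obtain ⟨k, hk⟩ := hcard
        rw [hk] at he
        exact orderOf_eq_one_iff.1 (Nat.eq_one_of_dvd_coprimes
          (((Nat.coprime_primes hr hp).2 hrp).pow_right k)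
          (orderOf_dvd_of_pow_eq_one hv.2.1) (orderOf_dvd_of_pow_eq_one he)))
    have h5 := (c.comm hx hw hw1
      (hc x ⟨⟨x, hxK⟩, hP0 (mem_zpowers _), rfl⟩ w ⟨hw, hwr, hwc⟩)).2
    rw [orderOf_eq_prime (hp := ⟨hr⟩) hwr hw1, hxo] at h5
    exact hrp h5
  refine Or.inr (frobenius_of_fpf K (fun e => hx ?_) (fun e => hyK (by rw [e]; exact mem_top y)) ?_)
  · rw [e, Subgroup.mem_bot] at hxK
    rw [hxK]
    exact one_mem N
  intro g hgK w hw hc
  by_contra hw1
  have hgN : g ∉ N := fun h => hgK (NComp.le_top_p p h)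
  obtain ⟨r, hr, hrd⟩ := Nat.exists_prime_and_dvd (n := orderOf g)
    (fun e => hgN (by rw [orderOf_eq_one_iff.1 e]; exact one_mem N))
  have hrp : r ≠ p := fun e => hgK (hmem g hgN (e ▸ hrd))
  set g' := g ^ (orderOf g / r) with hg'
  have hg'o : orderOf g' = r := orderOf_pow_orderOf_div (orderOf_pos g).ne' hrd
  have hg'N : g' ∉ N := fun h => hr.ne_one (hg'o.symm.trans (orderOf_eq_one_iff.2 (c.pow_eq_one hgN h)))
  have hc' : Commute g' w := hc.pow_left _
  by_cases hwN : w ∈ N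
  · have h1 := (c.comm hg'N hwN hw1 hc').2
    rw [hg'o] at h1
    exact hrp (hNp r hr (h1 ▸ Subgroup.orderOf_dvd_natCard N hwN))
  · have how := c.top_p_order hp hpN hw hwN
    have hcop : (orderOf g').Coprime (orderOf w) := by
      rw [hg'o, how]; exact (Nat.coprime_primes hr hp).2 hrp
    have ho := hc'.orderOf_mul_eq_mul_orderOf_of_coprime hcop
    rw [hg'o, how] at ho
    have hgw : g' * w ∉ N := by
      intro h
      refine hnot g' r hg'o hr hrp hg'N ?_
      have := mul_mem (NComp.le_top_p p h) (inv_mem hw)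
      rwa [mul_inv_cancel_right] at this
    have h2 := c.order_eq hp hpN hgw (by rw [ho]; exact dvd_mul_left p r)
    rw [ho] at h2
    exact hr.ne_one (by simpa [hp.ne_zero] using h2)

end Cfsg.Agent.H9.Partition
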