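import Cfsg.Agent.H9.Partition.Inner
import Cfsg.Agent.S3730

/-!
Invariant partitions of groups without solvable normal subgroups in which no involution has its centraliser
inside its component: all non-trivial subgroups of a cyclic group of even order share one normaliser.
-/

set_option autoImplicit false
set_option linter.unusedSectionVars false
set_option linter.style.haveILetI false

namespace Cfsg.Agent.H9.Partition

open Subgroup

universe u

variable {G : Type u} [Group G] [Finite G] {P : Part G}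

/-- No involution is inner. -/
structure OutCase (P : Part G) : Prop where
  ns : H79.SameNorm.NS G
  out : ∀ t : G, orderOf t = 2 → ∃ s, Commute s t ∧ s ∉ P.H t

/-- The centraliser is not of exponent two. -/
def Big (t : G) : Prop := ∃ a, Commute a t ∧ a * a ≠ 1

namespace OutCase

theorem mem_of_sq {t a : G} (ht : orderOf t = 2) (hc : Commute a t) (ha : a * a ≠ 1) :
    a ∈ P.H t := by
  by_contra h
  exact ha (H65.mul_self_of_two (inverts_of_outside ht hc h (Commute.refl t) (P.mem t)).1)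

theorem inner_comm (c : OutCase P) {t a b : G} (ht : orderOf t = 2) (hat : Commute a t)
    (ha : a ∈ P.H t) (hbt : Commute b t) (hb : b ∈ P.H t) : Commute a b := by
  obtain ⟨s, hs, hsH⟩ := c.out t ht
  have h1 := (inverts_of_outside ht hs hsH hat ha).2
  have h2 := (inverts_of_outside ht hs hsH hbt hb).2
  have h3 := (inverts_of_outside ht hs hsH (hat.mul_left hbt) (mul_mem ha hb)).2
  have h4 : (a * b)⁻¹ = a⁻¹ * b⁻¹ := by
    rw [← h3, ← h1, ← h2]
    group
  have h5 := congrArg (fun z => z⁻¹) h4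
  show a * b = b * a
  simpa using h5

theorem two_cosets {t s s' : G} (ht : orderOf t = 2) (hbig : Big t) (hs : Commute s t)
    (hsH : s ∉ P.H t) (hs' : Commute s' t) (hsH' : s' ∉ P.H t) : s * s' ∈ P.H t := by
  by_contra h
  obtain ⟨a, hat, ha⟩ := hbig
  have haH := mem_of_sq (P := P) ht hat ha
  have h1 := (inverts_of_outside ht hs hsH hat haH).2
  have h2 := (inverts_of_outside ht hs' hsH' hat haH).2
  have h3 := (inverts_of_outside ht (hs.mul_left hs') h hat haH).2
  refine ha (mul_eq_one_iff_eq_inv.2 ?_)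
  calc a = (s * a * s⁻¹)⁻¹ := by rw [h1, inv_inv]
    _ = s * (s' * a * s'⁻¹) * s⁻¹ := by rw [h2]; group
    _ = (s * s') * a * (s * s')⁻¹ := by group
    _ = a⁻¹ := h3

theorem cent_eq (c : OutCase P) {t v : G} (ht : orderOf t = 2) (hbig : Big t) (hv : orderOf v = 2)
    (hvt : Commute v t) (hvH : v ∈ P.H t) (g : G) : Commute g v ↔ Commute g t := by
  have hvH' : P.H v = P.H t := P.eq (H65.ne_one_of_two ht) (H65.ne_one_of_two hv) hvH
  have key : ∀ (t v : G), orderOf t = 2 → orderOf v = 2 → Commute v t → v ∈ P.H t → ∀ g,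
      Commute g t → Commute g v := by
    intro t v ht hv hvt hvH g hg
    by_cases hgH : g ∈ P.H t
    · exact c.inner_comm ht hg hgH hvt hvH
    · have h := (inverts_of_outside ht hg hgH hvt hvH).2
      rw [H65.inv_of_two hv] at h
      exact mul_inv_eq_iff_eq_mul.1 h
  exact ⟨key v t hv ht hvt.symm (hvH' ▸ P.mem t) g, key t v ht hv hvt hvH g⟩

theorem exp_two (c : OutCase P) {t v g : G} (ht : orderOf t = 2) (hv : orderOf v = 2)
    (hne : v ≠ t) (hvt : Commute v t) (hvH : v ∈ P.H t) (hg : Commute g t) (hgH : g ∉ P.H t) :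
    ¬ Big g := by
  intro hbig
  have hg2 := (inverts_of_outside ht hg hgH (Commute.refl t) (P.mem t)).1
  have hgv : Commute g v := by
    have h := (inverts_of_outside ht hg hgH hvt hvH).2
    rw [H65.inv_of_two hv] at h
    exact mul_inv_eq_iff_eq_mul.1 h
  have key : ∀ w, w ∈ P.H t → w ≠ 1 → w ∉ P.H g := fun w hw hw1 h => hgH (by
    rw [← P.eq_of_mem (H65.ne_one_of_two hg2) (H65.ne_one_of_two ht) hw1 h hw]
    exact P.mem g)
  refine key (t * v) (mul_mem (P.mem t) hvH) (fun e => hne ?_)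
    (two_cosets hg2 hbig hg.symm (key t (P.mem t) (H65.ne_one_of_two ht)) hgv.symm
      (key v hvH (H65.ne_one_of_two hv)))
  rw [eq_inv_of_mul_eq_one_right e, H65.inv_of_two ht]

theorem unique (c : OutCase P) {t v : G} (ht : orderOf t = 2) (hbig : Big t) (hv : orderOf v = 2)
    (hvt : Commute v t) (hvH : v ∈ P.H t) : v = t := by
  classical
  by_contra hne
  haveI : Fact (Nat.Prime 2) := ⟨Nat.prime_two⟩
  have ht1 := H65.ne_one_of_two ht
  obtain ⟨s, hs, hsH⟩ := c.out t ht
  -- a Sylow subgroup inside the centraliser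
  obtain ⟨S, z, htS, hzS, hz, hzc⟩ := exists_central_invol ht
  have hzt : Commute z t := (hzc t htS).symm
  have hSC : ∀ u ∈ (S : Subgroup G), Commute u t := by
    intro u hu
    by_cases hzH : z ∈ P.H t
    · exact (c.cent_eq ht hbig hz hzt hzH u).1 (hzc u hu)
    · have hsq : ∀ w ∈ (S : Subgroup G), w⁻¹ = w := fun w hw => inv_eq_of_mul_eq_one_right (by
        by_contra h
        exact c.exp_two ht hv hne hvt hvH hzt hzH ⟨w, hzc w hw, h⟩)
      show u * t = t * u
      rw [← hsq _ (mul_mem hu htS), mul_inv_rev, hsq _ hu, hsq _ htS]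
  obtain ⟨g, hgS, hgne⟩ := c.ns.not_isolated S ht htS
  set t' := g * t * g⁻¹ with ht'
  have ht'2 : orderOf t' = 2 := H65.two_conj ht g
  have ht't := hSC t' hgS
  have hconj : ∀ {x w : G} (h : G), Commute w x → Commute (h * w * h⁻¹) (h * x * h⁻¹) := by
    intro x w h hw
    show h * w * h⁻¹ * (h * x * h⁻¹) = h * x * h⁻¹ * (h * w * h⁻¹)
    have := congrArg (fun z => h * z * h⁻¹) hw.eq
    simpa [mul_assoc] using this
  have hbigconj : ∀ {x : G} (h : G), Big x → Big (h * x * h⁻¹) := by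
    rintro x h ⟨a, ha, ha2⟩
    refine ⟨h * a * h⁻¹, hconj h ha, fun e => ha2 ?_⟩
    rw [show h * a * h⁻¹ * (h * a * h⁻¹) = h * (a * a) * h⁻¹ by group] at e
    exact conj_eq_one_iff.1 e
  have ht'H : t' ∈ P.H t := by
    by_contra h
    exact c.exp_two ht hv hne hvt hvH ht't h (hbigconj g hbig)
  have hC := c.cent_eq ht hbig ht'2 ht't ht'H
  set C := centralizer ({t} : Set G) with hCd
  have hmemC : ∀ w, w ∈ C ↔ Commute w t := fun w => mem_centralizer_singleton_iff
  set M := normalizer (C : Set G) with hM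
  have hgM : g ∈ M := mem_normalizer_iff.2 fun w => by
    rw [hmemC, hmemC, ← hC (g * w * g⁻¹)]
    refine ⟨fun h => hconj g h, fun h => ?_⟩
    have h1 := hconj g⁻¹ h
    simpa [ht', mul_assoc] using h1
  have hgC : g ∉ C := fun h => hgne (by
    exact mul_inv_eq_iff_eq_mul.2 ((hmemC g).1 h).eq)
  -- the involutions outside the component
  let X : Set G := {w | Commute w t ∧ w ∉ P.H t}
  have hXbig : ∀ w ∈ X, ¬ Big w := fun w hw => c.exp_two ht hv hne hvt hvH hw.1 hw.2
  have hX2 : ∀ w ∈ X, orderOf w = 2 := fun w hw =>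
    (inverts_of_outside ht hw.1 hw.2 (Commute.refl t) (P.mem t)).1
  have hinv : ∀ m ∈ M, ∀ w ∈ X, m * w * m⁻¹ ∈ X := by
    intro m hm w hw
    have h1 : Commute (m * w * m⁻¹) t :=
      (hmemC _).1 ((mem_normalizer_iff.1 hm w).1 ((hmemC w).2 hw.1))
    refine ⟨h1, fun h2 => hXbig w hw ?_⟩
    have h3 : Big (m * w * m⁻¹) := by
      obtain ⟨a, hat, ha⟩ := hbig
      exact ⟨a, (c.cent_eq ht ⟨a, hat, ha⟩ (H65.two_conj (hX2 w hw) m) h1 h2 a).2 hat, ha⟩
    have h4 := hbigconj m⁻¹ h3
    rwa [show m⁻¹ * (m * w * m⁻¹) * m⁻¹⁻¹ = w by group] at h4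
  have hcardC : Nat.card C = Nat.card X + Nat.card X := by
    have e : Nat.card {w : G // Commute w t ∧ w ∈ P.H t} = Nat.card X := by
      have hs2 := (inverts_of_outside ht hs hsH (Commute.refl t) (P.mem t)).1
      refine Nat.card_congr ⟨fun a => ⟨(a : G) * s, a.2.1.mul_left hs, fun h => hsH ?_⟩,
        fun w => ⟨(w : G) * s, w.2.1.mul_left hs, two_cosets ht hbig w.2.1 w.2.2 hs hsH⟩,
        fun a => Subtype.ext (by simp [mul_assoc, H65.mul_self_of_two hs2]),
        fun w => Subtype.ext (by simp [mul_assoc, H65.mul_self_of_two hs2])⟩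
      have := mul_mem (inv_mem a.2.2) h
      rwa [inv_mul_cancel_left] at this
    nth_rewrite 1 [← e]
    rw [← Nat.card_sum]
    exact Nat.card_congr
      { toFun := fun w => if h : (w : G) ∈ P.H t then Sum.inl ⟨w, (hmemC w).1 w.2, h⟩
          else Sum.inr ⟨w, (hmemC w).1 w.2, h⟩
        invFun := fun x => Sum.elim
          (fun a : {w : G // Commute w t ∧ w ∈ P.H t} => (⟨(a : G), (hmemC _).2 a.2.1⟩ : C))
          (fun a : X => (⟨(a : G), (hmemC _).2 a.2.1⟩ : C)) x
        left_inv := fun w => by by_cases h : (w : G) ∈ P.H t <;> simp [h]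
        right_inv := fun x => by
          rcases x with ⟨a, ha⟩ | ⟨a, ha⟩
          · simp [ha.2]
          · simp [ha.2] }
  have hCM : C ≤ M := le_normalizer
  have hne1 : (C.subgroupOf M).index ≠ 1 := fun e =>
    hgC (mem_subgroupOf.1 (((Subgroup.index_eq_one).1 e).symm ▸ mem_top (⟨g, hgM⟩ : M)))
  obtain ⟨q, hq, hqd⟩ := Nat.exists_prime_and_dvd hne1
  haveI := Fact.mk hq
  have hq2 : q ≠ 2 := by
    rintro rfl
    refine S.not_dvd_index (hqd.trans ?_)
    refine (show (C.subgroupOf M).index ∣ C.index from ?_).trans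
      (index_dvd_of_le fun u hu => (hmemC u).2 (hSC u hu))
    exact ⟨M.index, ((Subgroup.relIndex_mul_index hCM).symm)⟩
  obtain ⟨Q⟩ : Nonempty (Sylow q M) := inferInstance
  letI : MulAction (Q : Subgroup M) X :=
    { smul := fun m w => ⟨((m : M) : G) * w * ((m : M) : G)⁻¹, hinv _ (m : M).2 w w.2⟩
      one_smul := fun w => Subtype.ext (by
        show ((((1 : (Q : Subgroup M)) : M) : G)) * w * ((((1 : (Q : Subgroup M)) : M) : G))⁻¹ = w
        simp)
      mul_smul := fun m n w => Subtype.ext (by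
        show ((((m * n : (Q : Subgroup M)) : M) : G)) * w *
          ((((m * n : (Q : Subgroup M)) : M) : G))⁻¹ =
          ((m : M) : G) * (((n : M) : G) * w * ((n : M) : G)⁻¹) * ((m : M) : G)⁻¹
        simp [mul_assoc]) }
  have hstab : ∀ w : X, MulAction.stabilizer (Q : Subgroup M) w = ⊥ := by
    intro w
    rw [Subgroup.eq_bot_iff_forall]
    intro m hm
    have h1 : ((m : M) : G) * w * ((m : M) : G)⁻¹ = w := congrArg Subtype.val hm
    by_contra hm1
    obtain ⟨k, hk⟩ := IsPGroup.iff_orderOf.1 Q.isPGroup' m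
    rw [← Subgroup.orderOf_coe, ← Subgroup.orderOf_coe] at hk
    refine hXbig w w.2 ⟨((m : M) : G), mul_inv_eq_iff_eq_mul.1 h1, fun e => ?_⟩
    have h2 : orderOf ((m : M) : G) ∣ 2 := orderOf_dvd_of_pow_eq_one (by rw [pow_two]; exact e)
    have h3 : orderOf ((m : M) : G) = 1 := by
      refine Nat.eq_one_of_dvd_coprimes ?_ dvd_rfl h2
      rw [hk]
      exact ((Nat.coprime_primes hq Nat.prime_two).2 hq2).pow_left k
    exact hm1 (Subtype.ext (Subtype.ext (orderOf_eq_one_iff.1 h3)))
  have hQX : Nat.card (Q : Subgroup M) ∣ Nat.card X := by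
    rw [Nat.card_congr (MulAction.selfEquivSigmaOrbitsQuotientStabilizer (Q : Subgroup M) X)]
    letI := Fintype.ofFinite (MulAction.orbitRel.Quotient (Q : Subgroup M) X)
    rw [Nat.card_sigma]
    refine Finset.dvd_sum fun ω _ => ?_
    rw [hstab, ← Subgroup.index_eq_card, Subgroup.index_bot]
  have hQC : Nat.card (Q : Subgroup M) ∣ Nat.card C := hcardC ▸ dvd_add hQX hQX
  have hcard : Nat.card M = Nat.card C * (C.subgroupOf M).index := by
    rw [← Nat.card_congr (subgroupOfEquivOfLe hCM).toEquiv, Subgroup.card_mul_index]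
  have h1 : Nat.card (Q : Subgroup M) * q ∣ Nat.card M := hcard ▸ mul_dvd_mul hQC hqd
  refine Q.not_dvd_index ?_
  rw [← Subgroup.card_mul_index (Q : Subgroup M)] at h1
  exact Nat.dvd_of_mul_dvd_mul_left Nat.card_pos h1

theorem comp_commute (c : OutCase P) {t h : G} (ht : orderOf t = 2) (hbig : Big t)
    (hh : h ∈ P.H t) : Commute h t := by
  classical
  haveI : Fact (Nat.Prime 2) := ⟨Nat.prime_two⟩
  have ht1 := H65.ne_one_of_two ht
  set H := P.H t with hH
  have htH : t ∈ H := P.mem t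
  have hiso : Cfsg.IsIsolatedInvolution (⟨t, htH⟩ : H) := by
    refine ⟨by rw [Subgroup.orderOf_mk, ht], fun k hk => Subtype.ext ?_⟩
    exact c.unique ht hbig (H65.two_conj ht (k : G)) (congrArg Subtype.val hk.eq).symm
      (mul_mem (mul_mem k.2 htH) (inv_mem k.2))
  have hz := H85.zStar hiso ⟨h, hh⟩
  haveI hKc := H1.pPrimeCore_characteristic 2 H
  set K := Cfsg.pPrimeCore 2 H with hK
  have hodd : ∀ k ∈ K, Odd (orderOf ((k : H) : G)) := fun k hk => by
    rw [Subgroup.orderOf_coe]
    refine Odd.of_dvd_nat ?_ (Subgroup.orderOf_dvd_natCard K hk)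
    exact Nat.coprime_two_right.1 (H1.card_pPrimeCore_coprime 2 H)
  obtain ⟨s, hs, hsH⟩ := c.out t ht
  have houtinv : ∀ r, Commute r t → r ∉ H → ∀ k ∈ K, r * ((k : H) : G) * r⁻¹ = ((k : H) : G)⁻¹ := by
    intro r hr hrH
    have hr2 := (inverts_of_outside ht hr hrH (Commute.refl t) (P.mem t)).1
    have hr1 := H65.ne_one_of_two hr2
    have hrN : r ∈ normalizer (H : Set G) := P.commute_mem_normalizer ht1 htH ht1 hr
    let α : H ≃* H :=
      { toFun := fun k => ⟨r * k * r⁻¹, (mem_normalizer_iff.1 hrN _).1 k.2⟩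
        invFun := fun k => ⟨r⁻¹ * k * r, (mem_normalizer_iff''.1 hrN _).1 k.2⟩
        left_inv := fun k => Subtype.ext (by simp [mul_assoc])
        right_inv := fun k => Subtype.ext (by simp [mul_assoc])
        map_mul' := fun k l => Subtype.ext (by simp [mul_assoc]) }
    have hαK : ∀ k ∈ K, α k ∈ K := fun k hk => by
      have h1 : K.map α.toMonoidHom = K := Subgroup.characteristic_iff_map_eq.1 hKc α
      rw [← h1]
      exact ⟨k, hk, rfl⟩
    let F : K → K := fun k => ⟨(k : H)⁻¹ * α k, mul_mem (inv_mem k.2) (hαK _ k.2)⟩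
    have hF : Function.Injective F := by
      intro k l e
      have e1 : ((k : H) : G)⁻¹ * (r * (k : H) * r⁻¹) = ((l : H) : G)⁻¹ * (r * (l : H) * r⁻¹) :=
        congrArg (fun x : K => ((x : H) : G)) e
      by_contra hne
      set d : K := l * k⁻¹ with hd
      have hd1 : ((d : H) : G) ≠ 1 := fun e => hne (by
        have : d = 1 := Subtype.ext (Subtype.ext e)
        exact (mul_inv_eq_one.1 this).symm)
      have hdc : Commute r ((d : H) : G) := by
        show r * ((l : H) * ((k : H) : G)⁻¹) = (l : H) * ((k : H) : G)⁻¹ * r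
        have e2 := congrArg (fun z => ((l : H) : G) * z * r * ((k : H) : G)⁻¹) e1
        simp [mul_assoc] at e2
        simpa [mul_assoc] using e2.symm
      have hdH : ((d : H) : G) ∉ P.H r := fun h => hrH (by
        rw [hH, ← P.eq_of_mem hr1 ht1 hd1 h (d : H).2]
        exact P.mem r)
      have h2 := (P.prime_of_commute hr1 hd1 hdc hdH).2
      rw [hr2] at h2
      exact (Nat.not_even_iff_odd.2 (hodd _ d.2)) (by rw [h2]; exact even_two)
    intro k hk
    obtain ⟨j, hj⟩ := Finite.injective_iff_surjective.1 hF ⟨k, hk⟩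
    have e1 : ((j : H) : G)⁻¹ * (r * (j : H) * r⁻¹) = (k : G) :=
      congrArg (fun x : K => ((x : H) : G)) hj
    rw [← e1]
    simp [mul_assoc, H65.inv_of_two hr2, H65.mul_self_of_two hr2]
  have hts : t * s ∉ H := fun h => hsH (by simpa using mul_mem (inv_mem htH) h)
  have hk := hz
  set k : H := (⟨t, htH⟩ : H) * ⟨h, hh⟩ * (⟨t, htH⟩ : H)⁻¹ * (⟨h, hh⟩ : H)⁻¹ with hkd
  have hkt : Commute (k : G) t := by
    have h1 := houtinv s hs hsH _ hk
    have h2 := houtinv (t * s) ((Commute.refl t).mul_left hs) hts _ hk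
    have h3 : t * (k : G)⁻¹ * t⁻¹ = (k : G)⁻¹ := by
      rw [← h1, show t * (s * (k : G) * s⁻¹) * t⁻¹ = t * s * (k : G) * (t * s)⁻¹ by group, h2, h1]
    have h4 : Commute t (k : G)⁻¹ := mul_inv_eq_iff_eq_mul.1 h3
    exact (Commute.inv_right_iff.1 h4).symm
  have hval : (k : G) = t * h * t⁻¹ * h⁻¹ := rfl
  have hk1 : (k : G) = 1 := by
    have hsq : (k : G) * (k : G) = 1 := by
      have h5 : t * (k : G) = h * t * h⁻¹ := by
        rw [hval, H65.inv_of_two ht]
        simp [mul_assoc, H65.mul_mul_self ht]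
      have h6 := H65.mul_self_of_two (H65.two_conj ht h)
      rw [← h5] at h6
      rw [← h6, mul_assoc t, ← mul_assoc (k : G) t, hkt.eq, mul_assoc t (k : G), H65.mul_mul_self ht]
    by_contra hne
    exact (Nat.not_even_iff_odd.2 (hodd k hk)) (by rw [H65.two_iff.2 ⟨hsq, hne⟩]; exact even_two)
  rw [hval] at hk1
  exact (mul_inv_eq_iff_eq_mul.1 (mul_inv_eq_one.1 hk1)).symm

theorem same_normalizer (c : OutCase P) : ∀ X : Subgroup G, IsCyclic ↥X → Even (Nat.card ↥X) →
    ∀ Y : Subgroup G, Y ≤ X → Y ≠ ⊥ →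
      normalizer (X : Set G) = normalizer (Y : Set G) := by
  intro X hX heven Y hYX hY
  obtain ⟨x, rfl⟩ := (Subgroup.isCyclic_iff_exists_zpowers_eq_top X).1 hX
  haveI := hX
  haveI : IsCyclic Y :=
    isCyclic_of_injective (Subgroup.inclusion hYX) (Subgroup.inclusion_injective hYX)
  obtain ⟨w, rfl⟩ := (Subgroup.isCyclic_iff_exists_zpowers_eq_top Y).1 inferInstance
  rw [Nat.card_zpowers] at heven
  set t := x ^ (orderOf x / 2) with htd
  have ht : orderOf t = 2 := orderOf_pow_orderOf_div (orderOf_pos x).ne' heven.two_dvd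
  have htx : t ∈ zpowers x := npow_mem_zpowers x _
  have hwx : w ∈ zpowers x := hYX (mem_zpowers w)
  have hw1 : w ≠ 1 := fun e => hY (zpowers_eq_bot.2 e)
  have ht1 := H65.ne_one_of_two ht
  have key : ∀ a g : G, g * a * g⁻¹ ∈ zpowers a ↔
      g ∈ normalizer ((zpowers a : Subgroup G) : Set G) := by
    intro a g
    refine ⟨fun h => ?_, fun h => (mem_normalizer_iff.1 h a).1 (mem_zpowers a)⟩
    refine mem_normalizer_fintype fun y hy => ?_
    obtain ⟨i, rfl⟩ := mem_zpowers_iff.1 hy
    rw [SetLike.mem_coe, ← conj_zpow]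
    exact zpow_mem h i
  ext g
  rw [← key, ← key]
  by_cases hxt : x * x = 1
  · have hx2 : orderOf x = 2 :=
      H65.two_iff.2 ⟨hxt, fun e => by rw [e, orderOf_one] at heven; exact absurd heven (by decide)⟩
    rw [(H79.SameNorm.mem_zpowers_two hx2 hwx).resolve_left hw1]
  have hxc : Commute x t := Commute.self_pow x _
  have hbig : Big t := ⟨x, hxc, hxt⟩
  have hxH : x ∈ P.H t := mem_of_sq ht hxc hxt
  have hwH : w ∈ P.H t := (zpowers_le.2 hxH) hwx
  have hCg : Commute g t → ∀ a ∈ P.H t, g * a * g⁻¹ ∈ zpowers a := by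
    intro hg a ha
    have hat := c.comp_commute ht hbig ha
    by_cases hgH : g ∈ P.H t
    · rw [(c.inner_comm ht hg hgH hat ha).eq, mul_inv_cancel_right]
      exact mem_zpowers a
    · rw [(inverts_of_outside ht hg hgH hat ha).2]
      exact inv_mem (mem_zpowers a)
  constructor
  · intro h
    have hgt : g * t * g⁻¹ ∈ zpowers x := by
      rw [htd, ← conj_pow]
      exact pow_mem h _
    have e := H79.SameNorm.involution_mem_unique hgt htx (H65.two_conj ht g) ht
    exact hCg (mul_inv_eq_iff_eq_mul.1 e) w hwH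
  · intro h
    have h1 : g * w * g⁻¹ ∈ P.H t := (zpowers_le.2 hwH) h
    have h2 := P.conj_mem_self ht1 hwH hw1 h1 (P.mem t)
    have e := c.unique ht hbig (H65.two_conj ht g) (c.comp_commute ht hbig h2) h2
    exact hCg (mul_inv_eq_iff_eq_mul.1 e) x hxH

end OutCase

/-- Without inner involutions: `PSL₂` or `PGL₂`. -/
theorem outer_case [Nontrivial G] (c : OutCase P) :
    (∃ (F : Type) (_ : Field F) (_ : Fintype F), 4 ≤ Fintype.card F ∧
        Nonempty (G ≃* Matrix.ProjectiveSpecialLinearGroup (Fin 2) F)) ∨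
    (∃ (F : Type) (_ : Field F) (_ : Fintype F), 5 ≤ Fintype.card F ∧ Odd (Fintype.card F) ∧
        Nonempty (G ≃* (GL (Fin 2) F ⧸ Subgroup.center (GL (Fin 2) F)))) := by
  classical
  obtain ⟨F, iF, iFt, hF, h⟩ := Cfsg.Agent.S3730.result c.ns c.same_normalizer
  rcases h with h | ⟨⟨e⟩⟩
  · exact Or.inl ⟨F, iF, iFt, by omega, h⟩
  rcases Nat.even_or_odd (Fintype.card F) with he | ho
  · refine Or.inl ⟨F, iF, iFt, by omega, ⟨e.trans (MulEquiv.ofBijective _
      ⟨Matrix.ProjectiveSpecialLinearGroup.toPGL_injective,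
        Matrix.ProjectiveSpecialLinearGroup.toPGL_surj_of_roots fun r => ?_⟩).symm⟩⟩
    have h2 : ringChar F = 2 := by
      by_contra hc
      have := FiniteField.odd_card_of_char_ne_two hc
      exact (Nat.not_even_iff_odd.2 (Nat.odd_iff.2 this)) he
    obtain ⟨l, hl⟩ := FiniteField.isSquare_of_char_two h2 (r : F)
    have hl0 : l ≠ 0 := by rintro rfl; exact r.ne_zero (by rw [hl]; simp)
    exact ⟨Units.mk0 l hl0, Units.ext (by simp [hl, pow_two])⟩
  · refine Or.inr ⟨F, iF, iFt, ?_, ho, ⟨e⟩⟩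
    obtain ⟨i, hi⟩ := ho
    omega

end Cfsg.Agent.H9.Partition
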